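import Cfsg.Agent.Lib.FsV.Solv

set_option autoImplicit false
set_option linter.unusedSectionVars false

namespace CfsgLib.FsV

open Subgroup CfsgLib.Tech CfsgLib.FsU
open scoped commutatorElement Pointwise

universe u

variable {G : Type u} [Group G] [Finite G] {p r : ℕ} {X : Set G} {H K M M' N : Subgroup G}
  {x y z g t u v : G}

/-- with abelian lines, `x Q` consists of points -/
theorem FS.ty_mem (h : FS p r X) (gen : ∀ H : Subgroup G, (∀ x ∈ X, x ∈ H) → H = ⊤)
    (hab : ∀ x ∈ X, ∀ y ∈ X, Ori r x y → Ab (RR x y)) (hx : x ∈ X) (hg : g ∈ QV r X ⊤) : x * g ∈ X := by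
  have e := h.tw_of_trans gen (h.ty_trans hab) hx
  have f := h.fsU hx e
  have l0 := h.QV_le_QQ hx e
  have sX : ∀ y ∈ {y | ∃ g : G, y = g * x * g⁻¹}, y ∈ X := by
    rintro _ ⟨g, rfl⟩
    exact h.conj x hx g
  have m0 : x ∈ {y | ∃ g : G, y = g * x * g⁻¹} := ⟨1, by simp⟩
  generalize {y | ∃ g : G, y = g * x * g⁻¹} = S at f l0 sX m0
  have k : ∀ y ∈ S, (fun x => x * y) '' S = (fun z => z * z) '' S := fun y hy =>
    Set.eq_of_subset_of_ncard_le (by
      rintro _ ⟨x, hx, rfl⟩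
      obtain ⟨k, hk⟩ := h.pp.odd_of_ne_two h.p2
      have x1 := f.pow_eq_one hx
      have a1 : x * x ≠ 1 := fun e => h.ne_one (sX x hx) (by
        rwa [hk, pow_succ, pow_mul, sq, e, one_pow, one_mul] at x1)
      obtain ⟨a2, a3⟩ := h.ab_surj (sX x hx) (sX y hy) (f.pg x hx y hy)
        (hab x (sX x hx) y (sX y hy) (f.pg x hx y hy)) (mul_mem (mem_zpowers x) (mem_zpowers x)) a1
        (mem_RR x y)
      rw [mul_assoc, mul_inv_cancel_left] at a2 a3
      have a4 := a3.pow (k + 1)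
      rw [← sq, ← pow_mul, show 2 * (k + 1) = p + 1 by omega, pow_succ, x1, one_mul] at a4
      have a5 : (x * y) ^ (k + 1) * (x * y) ^ (k + 1) = x * y := by
        rw [← pow_add, show k + 1 + (k + 1) = p + 1 by omega, pow_succ, h.pow_eq_one a2, one_mul]
      obtain ⟨u, -, a6⟩ := h.exists_conj' (sX x hx) (h.pw _ a2 _ (pow_mem (mem_zpowers _) (k + 1))
        fun e => h.ne_one a2 (by rw [← a5, e, one_mul])) a4
      exact ⟨_, a6 ▸ f.conj x hx u, a5⟩) (by
      rw [Set.ncard_image_of_injective _ (mul_left_injective y)]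
      exact Set.ncard_image_le)
  let N : Subgroup G :=
    { carrier := {g | (fun x => x * g) '' S = S}
      one_mem' := by simp
      mul_mem' := fun {a b} ha hb => by
        have : (fun x => x * (a * b)) '' S = (fun x => x * b) '' ((fun x => x * a) '' S) := by
          simp only [Set.image_image, mul_assoc]
        rw [Set.mem_ofPred_eq, this, ha, hb]
      inv_mem' := fun {a} ha => by
        rw [Set.mem_ofPred_eq] at ha ⊢
        conv_lhs => rw [← ha]
        simp only [Set.image_image, mul_inv_cancel_right, Set.image_id'] }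
  have l : QQ S ⊤ ≤ N := QQ_le_iff.2 fun y hy z hz _ _ => by
    have m := f.conj z hz y⁻¹
    have : (fun x => x * (y⁻¹ * z)) '' S =
        (fun x => x * y⁻¹) '' ((fun x => x * (y⁻¹ * z * y⁻¹⁻¹)) '' S) := by
      simp only [Set.image_image, inv_inv, mul_assoc, mul_inv_cancel, mul_one]
    show _ = _
    rw [this, k _ m, ← k y hy]
    simp only [Set.image_image, mul_inv_cancel_right, Set.image_id']
  exact sX _ ((l (l0 hg) : _ = _) ▸ Set.mem_image_of_mem (fun x => x * g) m0)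

theorem FS.sup_eq_top (h : FS p r X) (gen : ∀ H : Subgroup G, (∀ x ∈ X, x ∈ H) → H = ⊤)
    (hx : x ∈ X) : QV r X ⊤ ⊔ zpowers x = ⊤ := by
  refine gen _ fun y hy => ?_
  obtain ⟨y', h1, -, h3, o⟩ := h.ex' hx hy
  refine zpowers_le.2 ?_ h3
  have := mul_mem (mem_sup_right (mem_zpowers x) : x ∈ QV r X ⊤ ⊔ zpowers x)
    (mem_sup_left (mem_QV hx h1 (mem_top _) (mem_top _) o))
  rwa [mul_inv_cancel_left] at this

/-- the end of the odd case -/
theorem FS.frob (h : FS p r X) (gen : ∀ H : Subgroup G, (∀ x ∈ X, x ∈ H) → H = ⊤) (hr : r ≠ 2)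
    (hG : ¬ IsMulCommutative G)
    (ht : (∀ x ∈ X, ∀ y ∈ X, Ori r x y → Ab (RR x y)) ∨
      ∀ x ∈ X, ∀ y ∈ X, Ori r x y → Ab (RR x y) → x = y) :
    Odd (Nat.card (G ⧸ center G)) ∧ ∃ H : Subgroup (G ⧸ center G), Cfsg.IsFrobeniusComplement H := by
  have ab : ∀ A : Subgroup G, Ab A → A ≠ ⊤ := fun A hA e =>
    hG ⟨⟨fun a b => hA a (e.ge (mem_top a)) b (e.ge (mem_top b))⟩⟩
  obtain ⟨x, hx⟩ : ∃ x, x ∈ X := by_contra fun c =>
    ab ⊥ (fun a ha b _ => by rw [mem_bot.1 ha, one_mul, mul_one]) (gen _ fun x hx => (c ⟨x, hx⟩).elim)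
  have k : IsPGroup r (QV r X ⊤) ∧ ∀ u ∈ QV r X ⊤, u * x = x * u → u ∈ center G := by
    rcases ht with ht | ht
    · refine ⟨h.typeI gen ht, fun u hu e => ?_⟩
      have m := h.mem_zp_of_comm hx (h.ty_mem gen ht hx hu) (by rw [mul_assoc, e])
      rw [h.eq_one hx ((mul_mem_cancel_left (mem_zpowers x)).1 m)
        (isPGroup_iff_mem.1 (h.typeI gen ht) u hu)]
      exact one_mem _
    · have t : T2 p r X := ⟨h, ht, fun e => (hr e).elim, fun e => (hr e).elim, fun e => (hr e).elim⟩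
      have A : At p r X ⊤ x := ⟨t, t.main_odd hr, hx, mem_top x⟩
      refine ⟨A.pg, fun u hu e => mem_center_iff.2 fun g => mem_C1.1 ((gen (C1 u) fun y hy =>
        mem_C1.2 ((A.of_mem hy (mem_top y)).comm_of_Z (A.mem_Z hu e)).symm).ge (mem_top g))⟩
  obtain ⟨pK, cK⟩ := k
  have top := h.sup_eq_top gen hx
  have nK := hol_NN h.QV_top_normal
  set π := QuotientGroup.mk' (center G)
  refine ⟨Odd.of_dvd_nat ?_ (card_quotient_dvd_card _), zpowers (π x), fun e => ?_, fun e => ?_,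
    fun g hg => ?_⟩
  · rw [← Nat.not_even_iff_odd, even_iff_two_dvd]
    intro he
    have : Fact (Nat.Prime 2) := ⟨Nat.prime_two⟩
    obtain ⟨s, hs2⟩ := exists_prime_orderOf_dvd_card' 2 he
    obtain ⟨n, hn, k, e3⟩ := ba_mem_sup (nK x) (top.ge (mem_top s))
    have := ba_pow (nK (x ^ k)) hn p
    rw [← e3, od1_pow h (od1_sq hs2), ← pow_mul, mul_comm, pow_mul, h.pow_eq_one hx, one_pow,
      inv_one, mul_one] at this
    obtain ⟨b, hb⟩ := isPGroup_iff_mem.1 pK s this
    exact od1_ne hs2 (ba_eq_one (a := 1) Nat.prime_two h.rp hr (by rw [pow_one, pow_two, od1_sq hs2]) hb)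
  · have c : x ∈ center G := (QuotientGroup.eq_one_iff x).1 (zpowers_eq_bot.1 e)
    exact ab _ (ab_zpowers x) (gen _ fun y hy => h.mem_zp_of_comm hx hy (mem_center_iff.1 c y).symm)
  · have : IsCyclic (G ⧸ center G) := isCyclic_iff_exists_zpowers_eq_top.2 ⟨_, e⟩
    exact hG (isMulCommutative_of_isCyclic_quotient_center_self G)
  · obtain ⟨g, rfl⟩ := QuotientGroup.mk'_surjective _ g
    obtain ⟨u, hu, k, rfl⟩ := ba_mem_sup (nK x) (top.ge (mem_top g))
    refine eq_bot_iff.2 fun a ⟨a1, a2⟩ => by_contra fun a3 => hg ?_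
    have e1 : MulAut.conj (π (u * x ^ k)) • zpowers (π x) = zpowers (π (u * x * u⁻¹)) := by
      rw [Core.conj_smul_eq_map, MonoidHom.map_zpowers]
      congr 1
      rw [show u * x * u⁻¹ = u * x ^ k * x * (u * x ^ k)⁻¹ by group]
      rw [map_mul π _ _⁻¹, map_mul π _ x, map_inv]
      rfl
    replace a2 : a ∈ MulAut.conj (π (u * x ^ k)) • zpowers (π x) := a2
    replace a1 : a ∈ zpowers (π x) := a1
    rw [e1, ← MonoidHom.map_zpowers] at a2
    obtain ⟨b, b1, rfl⟩ := a2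
    rw [← MonoidHom.map_zpowers] at a1
    obtain ⟨c, c1, c2⟩ := a1
    have c3 := mem_center_iff.1 (QuotientGroup.eq.1 c2) x
    have c4 : x * b = b * x := by
      calc x * b = c * (c⁻¹ * x) * b := by group
        _ = c * (x * (c⁻¹ * b)) := by rw [← ab_zpowers x x (mem_zpowers x) _ (inv_mem c1)]; group
        _ = _ := by rw [c3]; group
    have c5 := h.comm_of_zp (h.conj x hx u) b1 (fun e => a3 (by rw [e, map_one]; exact one_mem _)) c4
    have c6 := h.eq_of_ori hx (h.mem_zp_of_comm hx (h.conj x hx u) c5) (Ori.of_mem pK (nK x) (by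
      simpa [mul_assoc] using mul_mem (conj_mem_of_mem_normalizer' (nK x) hu) (inv_mem hu)))
    have c7 : π u = 1 := (QuotientGroup.eq_one_iff u).2 (cK u hu (mul_inv_eq_iff_eq_mul.1 c6.symm))
    rw [map_mul, c7, one_mul, map_pow]
    exact pow_mem (mem_zpowers _) k

end CfsgLib.FsV
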