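import Cfsg.Agent.Lib.FsV.Main0
import Cfsg.Agent.Lib.Core.Fitting

set_option autoImplicit false
set_option linter.unusedSectionVars false

namespace CfsgLib.FsV

open Subgroup CfsgLib.Tech CfsgLib.FsU
open scoped commutatorElement

universe u

variable {G : Type u} [Group G] [Finite G] {p r : ℕ} {X : Set G} {H K M M' N : Subgroup G}
  {x y z g t u v : G}

/-- `N ⟨a⟩ / N` is abelian -/
theorem sv_comm_le {A : Subgroup G} (hA : Ab A) (hK : K ≤ N ⊔ A) (hn' : A ≤ NN N) : ⁅K, K⁆ ≤ N := by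
  refine commutator_le.2 fun g hg k hk => ?_
  obtain ⟨n, h1, c, h2, rfl⟩ := (Core.mem_sup_of_le_normalizer_left hn').1 (hK hg)
  obtain ⟨m, h3, d, h4, rfl⟩ := (Core.mem_sup_of_le_normalizer_left hn').1 (hK hk)
  have := mul_mem (mul_mem (mul_mem h1 (conj_mem_of_mem_normalizer (hn' h2) h3))
    (conj_mem_of_mem_normalizer (hn' h4) (inv_mem h1))) (inv_mem h3)
  convert this using 1
  calc ⁅n * c, m * d⁆ = n * c * m * (d * c⁻¹) * n⁻¹ * d⁻¹ * m⁻¹ := by
        rw [commutatorElement_def]; group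
    _ = _ := by rw [hA d h4 _ (inv_mem h2)]; group

theorem ab_zpowers (a : G) : Ab (zpowers a) := by
  rintro _ ⟨i, rfl⟩ _ ⟨j, rfl⟩
  exact zpow_mul_comm a i j

theorem sv_zp {a b : G} (hp : p.Prime) (ha : orderOf a = p) (hb : b ∈ zpowers a) (hb1 : b ≠ 1) :
    a ∈ zpowers b := by
  have := Fact.mk hp
  rw [eq_of_le_of_card_ge (zpowers_le.2 hb) (by
    rw [Nat.card_zpowers, Nat.card_zpowers, ha]
    obtain ⟨i, rfl⟩ := mem_powers_iff_mem_zpowers.2 hb
    exact (orderOf_eq_prime (by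
      simp only; rw [← pow_mul, mul_comm, pow_mul, ← ha, pow_orderOf_eq_one, one_pow]) hb1).ge)]
  exact mem_zpowers a

/-- a solvable group generated by any two distinct conjugates of `⟨a⟩` -/
theorem sv_solv (hp : p.Prime) (n : ℕ) : ∀ (F : Type u) [Group F] [Finite F] [Group.IsSolvable F] (a : F),
    Nat.card F = n → orderOf a = p → (∃ g : F, g * a * g⁻¹ ∉ zpowers a) →
    (∀ g : F, g * a * g⁻¹ ∉ zpowers a → zpowers a ⊔ zpowers (g * a * g⁻¹) = ⊤) →
    ∃ r : ℕ, r.Prime ∧ r ≠ p ∧ IsPGroup r (commutator F) := by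
  induction n using Nat.strong_induction_on with
  | _ n ih =>
  intro F _ _ _ a hn ha ⟨g, hg⟩ h
  have top : ∀ N : Subgroup F, N.Normal → a ∈ N → N = ⊤ := fun N hN m =>
    top_unique ((h g hg).ge.trans (sup_le (zpowers_le.2 m) (zpowers_le.2 (hN.conj_mem _ m g))))
  have : Nontrivial F := ⟨⟨a, 1, fun e => hp.one_lt.ne' (by rw [← ha, e, orderOf_one])⟩⟩
  obtain ⟨s, hs, hV⟩ := Core.exists_pCore_ne_bot (G := F)
  have := Fact.mk hs
  have hch := Core.pCore_characteristic s F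
  have nV : (Cfsg.pCore s F).Normal := inferInstance
  have pV := Core.isPGroup_pCore s F
  generalize Cfsg.pCore s F = V at hV nV pV
  by_cases e : V ⊔ zpowers a = ⊤
  · refine ⟨s, hs, fun e' => ?_, pV.to_le (sv_comm_le (ab_zpowers a) e.ge
      fun g _ => hol_NN nV g)⟩
    subst e'
    have h1 : IsPGroup s (⊤ : Subgroup F) := e ▸ pV.to_sup_of_normal_left
      (isPGroup_zpowers_of_pow (k := 1) (by rw [pow_one, ← ha, pow_orderOf_eq_one]))
    have := (h1.of_equiv topEquiv).isNilpotent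
    obtain ⟨M, hM, l⟩ := (eq_top_or_exists_le_coatom (zpowers a)).resolve_left fun e =>
      hg (e.ge (mem_top _))
    exact hM.1 (top M (NormalizerCondition.normal_of_coatom M Group.normalizerCondition_of_isNilpotent hM)
      (l (mem_zpowers a)))
  have aV : a ∉ V := fun m => e (top_unique ((top V nV m).ge.trans le_sup_left))
  have cV : V ≤ center F := fun v hv => by
    have : centralizer (V : Set F) = ⊤ := top _ inferInstance (mem_centralizer_iff.2 fun v hv => by
      have m : v * a * v⁻¹ ∈ zpowers a := by_contra fun c => e (top_unique ((h v c).ge.trans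
        (sup_le le_sup_right (zpowers_le.2 (mul_mem (mul_mem (mem_sup_left hv)
          (mem_sup_right (mem_zpowers a))) (inv_mem (mem_sup_left hv)))))))
      by_contra c
      refine aV (zpowers_le.2 (show v * a * v⁻¹ * a⁻¹ ∈ V by
        simpa [mul_assoc] using mul_mem hv (nV.conj_mem _ (inv_mem hv) a))
        (sv_zp hp ha (mul_mem m (inv_mem (mem_zpowers a))) fun e => c ?_))
      rwa [mul_inv_eq_one, mul_inv_eq_iff_eq_mul] at e)
    exact mem_center_iff.2 fun g => (mem_centralizer_iff.1 (this.ge (mem_top g)) v hv).symm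
  have abV : Ab (V ⊔ zpowers a) := fun b hb c hc => by
    obtain ⟨b1, h1, b2, h2, rfl⟩ := mem_sup_of_normal_left.1 hb
    obtain ⟨c1, h3, c2, h4, rfl⟩ := mem_sup_of_normal_left.1 hc
    have k1 := mem_center_iff.1 (cV h1)
    have k2 := mem_center_iff.1 (cV h3)
    calc b1 * b2 * (c1 * c2) = b1 * (b2 * c1) * c2 := by group
      _ = b1 * c1 * (b2 * c2) := by rw [k2 b2]; group
      _ = c1 * (b1 * c2) * b2 := by rw [ab_zpowers a b2 h2 c2 h4, k2 b1]; group
      _ = _ := by rw [← k1 c2]; group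
  set π := QuotientGroup.mk' V
  have mz : ∀ g : F, g ∈ zpowers a → π g ∈ zpowers (π a) := fun g hg => by
    rw [← MonoidHom.map_zpowers]; exact mem_map_of_mem π hg
  have := Fact.mk hp
  obtain ⟨r, hr, ne, pr⟩ := ih _ (hn ▸ Core.card_quotient_lt_of_ne_bot hV) (F ⧸ V) (π a) rfl
    (orderOf_eq_prime (by rw [← map_pow, ← ha, pow_orderOf_eq_one, map_one])
      fun e => aV ((QuotientGroup.eq_one_iff a).1 e))
    ⟨π g, fun m => e (top_unique ((h g hg).ge.trans (sup_le le_sup_right (zpowers_le.2 (by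
      rw [← MonoidHom.map_zpowers, ← map_inv, ← map_mul, ← map_mul, ← mem_comap, comap_map_eq,
        QuotientGroup.ker_mk', sup_comm] at m
      exact m)))))⟩ (fun k hk => by
      obtain ⟨k, rfl⟩ := QuotientGroup.mk'_surjective V k
      rw [← map_inv, ← map_mul, ← map_mul] at hk ⊢
      rw [← MonoidHom.map_zpowers, ← MonoidHom.map_zpowers, ← Subgroup.map_sup, h k fun m => hk (mz _ m),
        map_top_of_surjective _ (QuotientGroup.mk'_surjective V)])
  refine ⟨r, hr, ne, ?_⟩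
  have k1 : ∀ k ∈ commutator F, ∃ b : ℕ, k ^ r ^ b ∈ V := fun k hk => by
    obtain ⟨b, e⟩ := isPGroup_iff_mem.1 pr (π k) (by
      have := mem_map_of_mem π hk
      rwa [commutator_def, map_commutator, map_top_of_surjective _ (QuotientGroup.mk'_surjective V)] at this)
    exact ⟨b, (QuotientGroup.eq_one_iff _).1 ((map_pow π k _).trans e)⟩
  by_cases rs : r = s
  · subst rs
    refine isPGroup_iff_mem.2 fun k hk => ?_
    obtain ⟨b, e⟩ := k1 k hk
    obtain ⟨c, e'⟩ := isPGroup_iff_mem.1 pV _ e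
    exact ⟨b + c, by rw [pow_add, pow_mul, e']⟩
  let R : Subgroup F := closure {k | k ∈ commutator F ∧ ∃ b : ℕ, k ^ r ^ b = 1}
  have lR : R ≤ commutator F := (closure_le _).2 fun k hk => hk.1
  have nR : ∀ g : F, g ∈ NN R := fun g => mem_normalizer_of_cj_le (by
    rw [cj, MonoidHom.map_closure, closure_le]
    rintro _ ⟨k, ⟨h1, b, h2⟩, rfl⟩
    exact subset_closure ⟨(inferInstance : (commutator F).Normal).conj_mem _ h1 g, b, by
      rw [← map_pow, h2, map_one]⟩)
  refine (pg_of_gen hr (N := V) (K := R) (fun n hn k _ => (mem_center_iff.1 (cV hn) k).symm)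
    (fun k hk => k1 k (lR hk)) (closure_mono fun k hk => ⟨subset_closure hk, hk.2⟩)).to_le
    (sv_comm_le abV ?_ fun g _ => nR g)
  have k2 : commutator F ≤ R ⊔ (V ⊔ zpowers a) := fun k hk => by
    obtain ⟨b, e⟩ := k1 k hk
    obtain ⟨c, e'⟩ := isPGroup_iff_mem.1 pV _ e
    have m1 : k ^ (s ^ c : ℕ) ∈ R := subset_closure ⟨pow_mem hk _, b, by
      rw [← pow_mul, mul_comm, pow_mul, e']⟩
    obtain ⟨i, j, e1⟩ : IsCoprime ((s ^ c : ℕ) : ℤ) ((r ^ b : ℕ) : ℤ) :=
      Nat.isCoprime_iff_coprime.2 (Nat.Coprime.pow c b ((Nat.coprime_primes hs hr).2 (Ne.symm rs)))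
    have := mul_mem (mem_sup_left (T := V ⊔ zpowers a) (zpow_mem m1 i))
      (mem_sup_right (mem_sup_left (zpow_mem e j)))
    rwa [← zpow_natCast, ← zpow_natCast, ← zpow_mul, ← zpow_mul, ← zpow_add, mul_comm _ i, mul_comm _ j,
      e1, zpow_one] at this
  have m : a ∈ R ⊔ (V ⊔ zpowers a) := mem_sup_right (mem_sup_right (mem_zpowers a))
  refine (h g hg).ge.trans (sup_le (zpowers_le.2 m) (zpowers_le.2 ?_))
  have := mul_mem (k2 (commutator_mem_commutator (mem_top g) (mem_top a))) m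
  rwa [commutatorElement_def, inv_mul_cancel_right] at this

/-- an element of order `p` normalizing a group of order `p` centralizes it -/
theorem sv_comm (hp : p.Prime) (hx : orderOf x = p) (hy : y ^ p = 1) (e : y * x * y⁻¹ ∈ zpowers x) :
    y * x = x * y := by
  have := Fact.mk hp
  obtain ⟨k, hk⟩ := mem_powers_iff_mem_zpowers.2 e
  simp only at hk
  have h1 : ∀ n : ℕ, y ^ n * x * (y ^ n)⁻¹ = x ^ k ^ n := fun n => by
    induction n with
    | zero => simp
    | succ n ih => rw [pow_succ' k, pow_mul, hk, conj_pow, ← ih, pow_succ']; group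
  have h2 := h1 p
  have h3 : k ^ p ≡ k [MOD p] :=
    (ZMod.natCast_eq_natCast_iff _ _ _).1 (by rw [Nat.cast_pow, ZMod.pow_card])
  rw [hy, one_mul, inv_one, mul_one, (pow_eq_pow_iff_modEq (n := k ^ p) (m := k)).2 (by rw [hx]; exact h3), hk] at h2
  exact mul_inv_eq_iff_eq_mul.1 h2.symm

/-- members pairwise generating copies of a fixed solvable group form an `F`-set -/
theorem exists_fs {F : Type*} [Group F] [Finite F] [Group.IsSolvable F] (hp : p.Prime) (p2 : p ≠ 2)
    (ord : ∀ x ∈ X, orderOf x = p) (conj : ∀ x ∈ X, ∀ g : G, g * x * g⁻¹ ∈ X)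
    (pw : ∀ x ∈ X, ∀ y ∈ zpowers x, y ≠ 1 → y ∈ X)
    (hF : ∀ x ∈ X, ∀ y ∈ X, y ∉ zpowers x → Nonempty (↥(zpowers x ⊔ zpowers y) ≃* F))
    (hn : ¬ IsMulCommutative F) :
    ∃ r : ℕ, FS p r X ∧ (X.Nonempty → (∀ x ∈ X, ∃ y ∈ X, y ∉ zpowers x) → IsPGroup r (commutator F)) ∧
      ∀ x ∈ X, ∀ y ∈ X, Ori r x y → x ≠ y → Nonempty (RR x y ≃* commutator F) := by
  have nn : ∀ x ∈ X, ∀ y ∈ X, y ∉ zpowers x → y * x * y⁻¹ ∉ zpowers x := fun x hx y hy h m => by
    obtain ⟨e⟩ := hF x hx y hy h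
    have c := sv_comm hp (ord x hx) (by rw [← ord y hy, pow_orderOf_eq_one]) m
    refine hn ⟨⟨fun a b => ?_⟩⟩
    obtain ⟨a, rfl⟩ := e.surjective a
    obtain ⟨b, rfl⟩ := e.surjective b
    rw [← map_mul, ← map_mul]
    refine congrArg e (Subtype.ext ?_)
    have : Ab (zpowers x ⊔ zpowers y) := by
      rw [zpowers_eq_closure, zpowers_eq_closure, ← Subgroup.closure_union]
      refine aff_ab ?_
      rintro _ (rfl | rfl) _ (rfl | rfl)
      exacts [rfl, c.symm, c, rfl]
    exact this _ a.2 _ b.2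
  have ce : ∀ E : Subgroup G, (E ≃* F) → Nonempty (↥⁅E, E⁆ ≃* commutator F) := fun E e =>
    ⟨(MulEquiv.subgroupCongr (map_subtype_commutator E).symm).trans
      ((equivMapOfInjective _ _ E.subtype_injective).symm.trans ((e.subgroupMap (commutator E)).trans
        (MulEquiv.subgroupCongr (by
          rw [_root_.commutator_def, map_commutator, map_top_of_surjective _ e.surjective,
            _root_.commutator_def]))))⟩
  by_cases h0 : ∃ x ∈ X, ∃ y ∈ X, y ∉ zpowers x
  swap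
  · push Not at h0
    refine ⟨2, ⟨hp, p2, Nat.prime_two, p2.symm, ord, conj, pw, fun x hx y hy =>
      ⟨x, hx, h0 y hy x hx, Ori.refl 2 x⟩⟩, fun ⟨x, hx⟩ h => ?_, fun x hx y hy o ne => (ne ?_).elim⟩
    · obtain ⟨y, hy, e⟩ := h x hx
      exact (e (h0 x hx y hy)).elim
    · obtain ⟨b, hb⟩ := o.relt
      obtain ⟨i, e⟩ := mem_powers_iff_mem_zpowers.2 (mul_mem (inv_mem (mem_zpowers x)) (h0 x hx y hy))
      exact inv_mul_eq_one.1 (ba_eq_one (a := 1) hp Nat.prime_two p2.symm (by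
        rw [← e, pow_one, ← pow_mul, mul_comm, pow_mul, ← ord x hx, pow_orderOf_eq_one, one_pow]) hb)
  obtain ⟨x0, hx0, y0, hy0, h0⟩ := h0
  obtain ⟨e0⟩ := hF x0 hx0 y0 hy0 h0
  have := Core.isSolvable_of_mulEquiv e0.symm
  have zs : ∀ (E : Subgroup G) (a g : E), a ∈ zpowers g ↔ (a : G) ∈ zpowers (g : G) := fun E a g =>
    ⟨fun ⟨k, e⟩ => ⟨k, congrArg Subtype.val e⟩, fun ⟨k, e⟩ => ⟨k, Subtype.ext e⟩⟩
  obtain ⟨r, hr, ne, pr⟩ := sv_solv hp _ ↥(zpowers x0 ⊔ zpowers y0) ⟨x0, mem_sup_left (mem_zpowers x0)⟩ rfl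
    ((orderOf_mk _ _).trans (ord x0 hx0))
    ⟨⟨y0, mem_sup_right (mem_zpowers y0)⟩, fun m => nn x0 hx0 y0 hy0 h0 ((zs _ _ _).1 m)⟩ (fun g hg => by
      obtain ⟨e1⟩ := hF x0 hx0 _ (conj x0 hx0 g) fun m => hg ((zs _ _ _).2 m)
      refine map_injective (subtype_injective _) ?_
      rw [Subgroup.map_sup, MonoidHom.map_zpowers, MonoidHom.map_zpowers, ← MonoidHom.range_eq_map,
        range_subtype]
      exact eq_of_le_of_card_ge (sup_le le_sup_left (zpowers_le.2 (by
        rw [subtype_apply]; exact SetLike.coe_mem _)))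
        (Nat.card_congr (e0.trans e1.symm).toEquiv).le)
  have pF : IsPGroup r (commutator F) := by
    obtain ⟨e⟩ := ce _ e0
    have := pr.map (Subgroup.subtype _)
    rw [map_subtype_commutator] at this
    exact this.of_equiv e
  have nE : ∀ E : Subgroup G, E ≤ NN ⁅E, E⁆ := fun E g hg => mem_normalizer_iff_cj.2 (by
    rw [cj_commutator, mem_normalizer_iff_cj.1 (le_normalizer hg)])
  have fs : FS p r X := ⟨hp, p2, hr, ne, ord, conj, pw, fun x hx y hy => by
    by_cases h : y ∈ zpowers x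
    · exact ⟨x, hx, sv_zp hp (ord x hx) h fun e => hp.one_lt.ne' (by rw [← ord y hy, e, orderOf_one]),
        Ori.refl r x⟩
    obtain ⟨e⟩ := hF x hx y hy h
    obtain ⟨e1⟩ := hF x hx _ (conj x hx y) (nn x hx y hy h)
    obtain ⟨e2⟩ := ce _ e
    have pE := pF.of_equiv e2.symm
    have mx : x ∈ zpowers x ⊔ zpowers y := mem_sup_left (mem_zpowers x)
    have my : y ∈ zpowers x ⊔ zpowers y := mem_sup_right (mem_zpowers y)
    have l := eq_of_le_of_card_ge (sup_le le_sup_left (zpowers_le.2 (mul_mem (mul_mem my mx) (inv_mem my))))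
      (Nat.card_congr (e.trans e1.symm).toEquiv).le
    have m : y ∈ ⁅zpowers x ⊔ zpowers y, zpowers x ⊔ zpowers y⁆ ⊔ zpowers x := by
      refine (sup_le le_sup_right (zpowers_le.2 ?_) : _ ≤ _ ⊔ zpowers x) (l.ge my)
      have := mul_mem (mem_sup_left (T := zpowers x) (commutator_mem_commutator my mx))
        (mem_sup_right (mem_zpowers x))
      rwa [commutatorElement_def, inv_mul_cancel_right] at this
    have nx := nE _ mx
    generalize ⁅zpowers x ⊔ zpowers y, zpowers x ⊔ zpowers y⁆ = R at pE m nx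
    have nR : ∀ z ∈ X, z ∉ R := fun z hz m => by
      obtain ⟨b, hb⟩ := isPGroup_iff_mem.1 pE z m
      have := ba_eq_one (a := 1) hp hr ne (by rw [pow_one, ← ord z hz, pow_orderOf_eq_one]) hb
      exact hp.one_lt.ne' (by rw [← ord z hz, this, orderOf_one])
    obtain ⟨n, hn, k, e3⟩ := ba_mem_sup nx m
    obtain ⟨j, e4⟩ := mem_powers_iff_mem_zpowers.2 (sv_zp hp (ord x hx) (pow_mem (mem_zpowers x) k)
      fun e => nR y hy (by rwa [e3, e, mul_one]))
    simp only at e4
    have m1 := ba_pow (pow_mem nx k) hn j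
    rw [e4, ← e3] at m1
    refine ⟨y ^ j, pw y hy _ (pow_mem (mem_zpowers y) j) fun e => nR x hx ?_, pow_mem (mem_zpowers y) j,
      Ori.of_mem pE nx (by simpa [mul_assoc] using conj_mem_of_mem_normalizer' nx m1)⟩
    rwa [e, one_mul, inv_mem_iff] at m1⟩
  refine ⟨r, fs, fun _ _ => pF, fun x hx y hy o ne => ?_⟩
  obtain ⟨e⟩ := hF x hx y hy fun m => ne (fs.eq_of_ori hx m o)
  obtain ⟨e2⟩ := ce _ e
  refine ⟨(MulEquiv.subgroupCongr (le_antisymm ?_ ?_)).trans e2⟩
  · have mx : x ∈ zpowers x ⊔ zpowers y := mem_sup_left (mem_zpowers x)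
    obtain ⟨u, hu, e3⟩ := fs.exists_conj' hx hy o
    refine RR_le (nE _ mx) ?_
    have := commutator_mem_commutator (inv_mem mx) (RR_le (le_normalizer mx)
      (mul_mem (inv_mem mx) (mem_sup_right (mem_zpowers y))) hu)
    rwa [commutatorElement_def, inv_inv, mul_assoc, mul_assoc, ← mul_assoc u, ← e3] at this
  · exact sv_comm_le (ab_zpowers x)
      (sup_le le_sup_right (zpowers_le.2 (mem_line x y))) (zpowers_le.2 (RR_norm x y))

end CfsgLib.FsV
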