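import Cfsg.Agent.Lib.FsV.Base

set_option autoImplicit false
set_option linter.unusedSectionVars false

namespace CfsgLib.FsV

open Subgroup CfsgLib.Tech CfsgLib.FsU
open scoped commutatorElement

universe u

variable {G : Type u} [Group G] [Finite G] {p r : ℕ} {X : Set G} {H K M M' N : Subgroup G}
  {x y z g t u v : G}

theorem At.exists_conj' (A : At p r X H x) (hy : y ∈ X) (hy' : y ∈ H) (o : Ori r x y) :
    ∃ u ∈ QV r X H, y = u * x * u⁻¹ := by
  obtain ⟨u, hu, e⟩ := A.fs.exists_conj' A.mem hy o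
  exact ⟨u, A.fs.RR_le_QV A.mem hy A.memH hy' o hu, e⟩

theorem At.exists_conj (A : At p r X H x) (hy : y ∈ X) (hy' : y ∈ H) :
    ∃ u ∈ QV r X H, y ∈ zpowers (u * x * u⁻¹) := by
  obtain ⟨y', h1, h2, h3, o⟩ := A.fs.ex' A.mem hy
  obtain ⟨u, hu, rfl⟩ := A.exists_conj' h1 (zpowers_le.2 hy' h2) o
  exact ⟨u, hu, h3⟩

/-- a subgroup containing the `Q`-conjugates of `x` contains all points of `H` -/
theorem At.pts (A : At p r X H x) (e : ∀ u ∈ QV r X H, u * x * u⁻¹ ∈ K) (hy : y ∈ X) (hy' : y ∈ H) :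
    y ∈ K := by
  obtain ⟨u, hu, h⟩ := A.exists_conj hy hy'
  exact zpowers_le.2 (e u hu) h

/-- orientation is transitive in a good subgroup -/
theorem At.ori_trans (A : At p r X H x) (hy : y ∈ X) (hy' : y ∈ H) (hz : z ∈ X) (hz' : z ∈ H)
    (o : Ori r x y) (o' : Ori r x z) : Ori r y z :=
  (A.of_mem hy hy').ori (by
    simpa [mul_assoc] using mul_mem (inv_mem (mem_QV A.mem hy A.memH hy' o)) (mem_QV A.mem hz A.memH hz' o'))

/-- `H = Q N_H(⟨x⟩)` -/
theorem At.decomp (A : At p r X H x) (hg : g ∈ H) :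
    ∃ u ∈ QV r X H, u⁻¹ * g * x * (u⁻¹ * g)⁻¹ ∈ zpowers x := by
  obtain ⟨u, hu, e⟩ := A.exists_conj (A.fs.conj x A.mem g) (mul_mem (mul_mem hg A.memH) (inv_mem hg))
  refine ⟨u, hu, ?_⟩
  rw [← cj_zpowers, mem_cj] at e
  convert e using 1
  group

theorem At.decomp' (A : At p r X H x) (hg : g ∈ H) (o : Ori r x (g * x * g⁻¹)) :
    ∃ u ∈ QV r X H, u⁻¹ * g * x = x * (u⁻¹ * g) := by
  obtain ⟨u, hu, e⟩ := A.exists_conj' (A.fs.conj x A.mem g)
    (mul_mem (mul_mem hg A.memH) (inv_mem hg)) o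
  refine ⟨u, hu, ?_⟩
  calc u⁻¹ * g * x = u⁻¹ * (g * x * g⁻¹) * g := by group
    _ = _ := by rw [e]; group

theorem At.comm_of_Z (A : At p r X H x) (hu : u ∈ ZV r X H) : u * x = x * u :=
  A.t2.comm_of_ab (ab_ZV r X H) A.mem (A.fs.ZV_norm A.memH) hu

/-- a subgroup normalized by `Q` and centralized by `x` is centralized by `Q` -/
theorem At.cent_of_norm (A : At p r X H x) (hn : QV r X H ≤ NN N) (e : ∀ n ∈ N, n * x = x * n)
    (hv : v ∈ N) (hu : u ∈ QV r X H) : u * v = v * u := by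
  have k : ∀ y ∈ X, y ∈ H → y ∈ C1 v := fun y hy hy' => A.pts (fun w hw => by
    refine mem_C1.2 ?_
    calc w * x * w⁻¹ * v = w * (x * (w⁻¹ * v * w)) * w⁻¹ := by group
      _ = _ := by rw [← e _ (conj_mem_of_mem_normalizer' (hn hw) hv)]; group) hy hy'
  exact mem_C1.1 (QV_le_iff.2 (fun y hy z hz hy' hz' _ => mul_mem (inv_mem (k y hy hy')) (k z hz hz')) hu)

theorem At.comm_le (A : At p r X H x) : ⁅QV r X H, QV r X H⁆ ≤ ZV r X H := by
  have DQ : ⁅QV r X H, QV r X H⁆ ⊔ ZV r X H ≤ QV r X H := sup_le (commutator_le_self _) (ZV_le r X H)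
  have nD : H ≤ NN (⁅QV r X H, QV r X H⁆ ⊔ ZV r X H) := fun g hg => mem_normalizer_iff_cj.2 (by
    rw [cj_sup, cj_commutator, mem_normalizer_iff_cj.1 (A.fs.QV_norm hg),
      mem_normalizer_iff_cj.1 (A.fs.ZV_norm hg)])
  let B : Subgroup G :=
    { carrier := {d | d ∈ ⁅QV r X H, QV r X H⁆ ⊔ ZV r X H ∧ ∀ u ∈ QV r X H, br d u ∈ ZV r X H}
      one_mem' := ⟨one_mem _, fun u _ => by simp [br]⟩
      mul_mem' := fun {a b} ha hb => ⟨mul_mem ha.1 hb.1, fun u hu => by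
        rw [show br (a * b) u = a * br b u * a⁻¹ * br a u by simp only [br]; group]
        exact mul_mem (A.fs.ZV_conj (QV_le r X H (DQ ha.1)) (hb.2 u hu)) (ha.2 u hu)⟩
      inv_mem' := fun {a} ha => ⟨inv_mem ha.1, fun u hu => by
        rw [show br a⁻¹ u = a⁻¹ * (br a u)⁻¹ * a⁻¹⁻¹ by simp only [br]; group]
        exact A.fs.ZV_conj (inv_mem (QV_le r X H (DQ ha.1))) (inv_mem (ha.2 u hu))⟩ }
  have nB : H ≤ NN B := fun g hg => mem_normalizer_of_forall fun d hd =>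
    ⟨conj_mem_of_mem_normalizer (nD hg) hd.1, fun u hu => by
      rw [show br (g * d * g⁻¹) u = g * br d (g⁻¹ * u * g⁻¹⁻¹) * g⁻¹ by simp only [br]; group]
      exact A.fs.ZV_conj hg (hd.2 _ (A.fs.QV_conj (inv_mem hg) hu))⟩
  have ab : Ab B := fun a ha d hd => mem_C1.1 ((sup_le (commutator_le.2 fun u hu v hv => by
      have h1 := mem_ZV.1 (hd.2 u hu)
      have h2 := mem_ZV.1 (hd.2 v hv)
      have e : d * br u v * d⁻¹ = br u v := by
        rw [show d * br u v * d⁻¹ = br (br d u * u) (br d v * v) by simp only [br]; group,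
          aff_br_left (h1.2 u hu).symm (h1.2 _ (mul_mem h2.1 hv)).symm, aff_br_right (h2.2 u hu).symm,
          ← h2.2 _ (mul_mem (mul_mem (mul_mem hu hv) (inv_mem hu)) (inv_mem hv)), mul_inv_cancel_right]
      exact mem_C1.2 (mul_inv_eq_iff_eq_mul.1 e).symm)
    fun z hz => mem_C1.2 ((mem_ZV.1 hz).2 d (DQ hd.1)).symm : _ ≤ C1 d) ha.1)
  by_contra hn
  obtain ⟨d, hd, hd', -, e⟩ := fix_quot A.fs.rp (A.pg.to_le DQ) A.pg
    (lt_of_le_of_ne le_sup_right fun e => hn (le_sup_left.trans e.ge)) ((QV_le r X H).trans nD)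
    fun _ hg => A.fs.ZV_norm (QV_le r X H hg)
  exact hd' (mem_ZV.2 ⟨DQ hd, fun u hu => A.cent_of_norm ((QV_le r X H).trans nB)
    (fun n hn => A.t2.comm_of_ab ab A.mem (nB A.memH) hn) ⟨hd, e⟩ hu⟩)

/-- class at most two -/
theorem At.br_mem (A : At p r X H x) (hu : u ∈ QV r X H) (hv : v ∈ QV r X H) : br u v ∈ ZV r X H :=
  A.comm_le (commutator_mem_commutator hu hv)

theorem At.mem_Z (A : At p r X H x) (hu : u ∈ QV r X H) (e : u * x = x * u) : u ∈ ZV r X H :=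
  mem_ZV.2 ⟨hu, fun _ hv => A.cent_of_norm (N := QV r X H ⊓ C1 x)
    (fun w hw => mem_normalizer_of_forall fun n hn => by
      rw [show w * n * w⁻¹ = br w n * n by simp only [br]; group]
      exact mul_mem ⟨ZV_le r X H (A.br_mem hw hn.1), mem_C1.2 (A.comm_of_Z (A.br_mem hw hn.1))⟩ hn)
    (fun _ hn => mem_C1.1 hn.2) ⟨hu, mem_C1.2 e⟩ hv⟩

theorem At.Z_le_comm (A : At p r X H x) : ZV r X H ≤ ⁅QV r X H, QV r X H⁆ := fun _ hz =>
  cent_le_comm A.fs.rp A.fs.pp A.fs.rne (A.fs.pow_eq_one A.mem) A.pg (A.fs.QV_norm A.memH)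
    (A.fs.QV_le_comm A.mem A.memH) (ZV_le r X H hz) (A.comm_of_Z hz)

/-- bilinearity -/
theorem At.br_mul_left (A : At p r X H x) {w : G} (hu : u ∈ QV r X H) (hv : v ∈ QV r X H)
    (hw : w ∈ QV r X H) : br (u * v) w = br u w * br v w := by
  rw [show br (u * v) w = u * br v w * u⁻¹ * br u w by simp only [br]; group, (mem_ZV.1 (A.br_mem hv hw)).2 u hu,
    mul_inv_cancel_right, ab_ZV r X H _ (A.br_mem hu hw) _ (A.br_mem hv hw)]

theorem At.br_mul_right (A : At p r X H x) {w : G} (hu : u ∈ QV r X H) (hv : v ∈ QV r X H)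
    (hw : w ∈ QV r X H) : br u (v * w) = br u v * br u w := by
  rw [show br u (v * w) = br u v * (v * br u w * v⁻¹) by simp only [br]; group, (mem_ZV.1 (A.br_mem hu hw)).2 v hv,
    mul_inv_cancel_right]

theorem At.br_pow_left (A : At p r X H x) (hu : u ∈ QV r X H) (hv : v ∈ QV r X H) (n : ℕ) :
    br (u ^ n) v = br u v ^ n := by
  induction n with
  | zero => simp [br]
  | succ n ih => rw [pow_succ, A.br_mul_left (pow_mem hu n) hu hv, ih, pow_succ]

theorem At.br_pow_right (A : At p r X H x) (hu : u ∈ QV r X H) (hv : v ∈ QV r X H) (n : ℕ) :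
    br u (v ^ n) = br u v ^ n := by
  induction n with
  | zero => simp [br]
  | succ n ih => rw [pow_succ, A.br_mul_right hu (pow_mem hv n) hv, ih, pow_succ]

theorem aff_br_Z (hu : u ∈ ZV r X H) (hv : v ∈ QV r X H) : br u v = 1 := by
  rw [br, ← (mem_ZV.1 hu).2 v hv]; group

theorem At.pow_mem (A : At p r X H x) (hu : u ∈ QV r X H) : u ^ r ∈ ZV r X H := by
  have := Fact.mk A.fs.rp
  obtain ⟨n, hn⟩ := A.pg.exists_card_eq
  have step : ∀ k, (∀ u ∈ QV r X H, u ^ r ^ (k + 2) ∈ ZV r X H) → ∀ u ∈ QV r X H, u ^ r ^ (k + 1) ∈ ZV r X H :=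
    fun k hk u hu => A.mem_Z (Subgroup.pow_mem _ hu _) (A.t2.comm_of_ab
      (A := closure {g | ∃ u ∈ QV r X H, g = u ^ r ^ (k + 1)}) (aff_ab (by
        rintro _ ⟨a, ha, rfl⟩ _ ⟨b, hb, rfl⟩
        have : br (a ^ r ^ (k + 1)) (b ^ r ^ (k + 1)) = 1 := by
          rw [A.br_pow_right (Subgroup.pow_mem _ ha _) hb, ← A.br_pow_left (Subgroup.pow_mem _ ha _) hb,
            ← pow_mul, ← pow_add, show k + 1 + (k + 1) = k + (k + 2) by ring, pow_add, pow_mul]
          exact aff_br_Z (hk _ (Subgroup.pow_mem _ ha _)) hb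
        exact commutatorElement_eq_one_iff_mul_comm.1 this)) A.mem
      (mem_normalizer_of_cj_le (by
        rw [cj, MonoidHom.map_closure, closure_le]
        rintro _ ⟨_, ⟨a, ha, rfl⟩, rfl⟩
        exact subset_closure ⟨_, A.fs.QV_conj A.memH ha, by simp [conj_pow]⟩))
      (subset_closure ⟨u, hu, rfl⟩))
  have all : ∀ k, (∀ u ∈ QV r X H, u ^ r ^ (k + 1) ∈ ZV r X H) → ∀ u ∈ QV r X H, u ^ r ∈ ZV r X H := by
    intro k
    induction k with
    | zero => simp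
    | succ k ih => exact fun hk => ih (step k hk)
  refine all n (fun u hu => ?_) u hu
  have : u ^ r ^ n = 1 := congrArg Subtype.val (hn ▸ pow_card_eq_one' (x := (⟨u, hu⟩ : QV r X H)))
  rw [pow_succ, pow_mul, this, one_pow]
  exact one_mem _

theorem At.pow_Z (A : At p r X H x) (hu : u ∈ ZV r X H) : u ^ r = 1 := by
  let E : Subgroup G :=
    { carrier := {z | z ∈ ZV r X H ∧ z ^ r = 1}
      one_mem' := ⟨one_mem _, one_pow _⟩
      mul_mem' := fun {a b} ha hb => ⟨mul_mem ha.1 hb.1, by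
        rw [Commute.mul_pow (ab_ZV r X H a ha.1 b hb.1), ha.2, hb.2, one_mul]⟩
      inv_mem' := fun {a} ha => ⟨inv_mem ha.1, by rw [inv_pow, ha.2, inv_one]⟩ }
  exact ((commutator_le.2 fun a ha b hb => ⟨A.br_mem ha hb, (A.br_pow_left ha hb r).symm.trans
    (aff_br_Z (A.pow_mem ha) hb)⟩ : _ ≤ E) (A.Z_le_comm hu)).2

theorem At.fpf (A : At p r X H x) (hu : u ∈ QV r X H) (e : x⁻¹ * u * x * u⁻¹ ∈ ZV r X H) :
    u ∈ ZV r X H :=
  A.mem_Z hu (mul_inv_eq_iff_eq_mul.1 (A.t2.eq_of_ab (ab_ZV r X H) A.mem (A.fs.ZV_norm A.memH)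
    (A.fs.conj x A.mem u) (A.ori_conj hu) (by rwa [← mul_assoc, ← mul_assoc])).symm)

theorem At.surj (A : At p r X H x) {W : Subgroup G} (hW : W ≤ QV r X H) (hZ : ZV r X H ≤ W)
    (hx : x ∈ NN W) {c : G} (hc : c ∈ W) :
    ∃ w ∈ W, ∃ γ ∈ ZV r X H, c = x⁻¹ * w * x * w⁻¹ * γ :=
  FsU.surj hZ (fun _ hg => A.fs.ZV_norm (QV_le r X H (hW hg))) hx (A.fs.ZV_norm A.memH)
    (fun _ hu => A.fpf (hW hu)) hc

theorem At.Z_mono (A : At p r X H x) (B : At p r X K x) (h : ∀ y ∈ X, y ∈ H → y ∈ K) :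
    ZV r X H ≤ ZV r X K :=
  A.Z_le_comm.trans ((commutator_mono (QV_mono h) (QV_mono h)).trans B.comm_le)

/-- an element centralizing `x` and `Q / Z` centralizes all points -/
theorem At.cent_of_triv (A : At p r X H x) {d : G} (e : d * x = x * d)
    (h : ∀ u ∈ QV r X H, br d u ∈ ZV r X H) (hy : y ∈ X) (hy' : y ∈ H) : d * y = y * d := by
  refine (mem_C1.1 (A.pts (K := C1 d) (fun u hu => mem_C1.2 (Eq.symm ?_)) hy hy')).symm
  have hu' := QV_le r X H hu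
  have c := (A.of_mem (A.fs.conj x A.mem u) (mul_mem (mul_mem hu' A.memH) (inv_mem hu'))).comm_of_Z (h u hu)
  calc d * (u * x * u⁻¹) = br d u * u * (d * x) * u⁻¹ := by simp only [br]; group
    _ = br d u * (u * x * u⁻¹) * (br d u)⁻¹ * d := by rw [e]; group
    _ = _ := by rw [c, mul_inv_cancel_right]

/-- the line through two points, as a good subgroup -/
theorem T2.at_line (h : T2 p r X) (hx : x ∈ X) (hy : y ∈ X) (o : Ori r x y) :
    At p r X (RR x y ⊔ zpowers x) x ∧ y ∈ RR x y ⊔ zpowers x ∧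
      QV r X (RR x y ⊔ zpowers x) = RR x y := by
  have m : x ∈ RR x y ⊔ zpowers x := mem_sup_right (mem_zpowers x)
  have l := h.toFS.QV_le_of_norm hx (RR_norm x y)
  exact ⟨⟨h, IsPGroup.to_le o l, hx, m⟩, mem_line x y,
    le_antisymm l (h.toFS.RR_le_QV hx hy m (mem_line x y) o)⟩

end CfsgLib.FsV
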