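import Cfsg.Agent.Lib.FsV.Defs

set_option autoImplicit false
set_option linter.unusedSectionVars false

namespace CfsgLib.FsV

open Subgroup CfsgLib.Tech CfsgLib.FsU
open scoped commutatorElement

universe u

variable {G : Type u} [Group G] [Finite G] {p r : ℕ} {X : Set G} {H K M M' N : Subgroup G}
  {x y z g t u v : G}

theorem RR_symm (x y : G) : RR y x = RR x y := by
  have k : ∀ x y : G, RR y x ≤ RR x y := fun x y => RR_le (by
    have := mul_mem (RR_norm x y) (le_normalizer (mem_RR x y))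
    rwa [mul_inv_cancel_left] at this) (by simpa using inv_mem (mem_RR x y))
  exact le_antisymm (k x y) (k y x)

theorem RR_norm' (x y : G) : y ∈ NN (RR x y) := RR_symm x y ▸ RR_norm y x

theorem Ori.symm (o : Ori r x y) : Ori r y x := by rwa [Ori, RR_symm]

theorem mem_line (x y : G) : y ∈ RR x y ⊔ zpowers x :=
  (mul_mem_cancel_left (inv_mem (mem_sup_right (mem_zpowers x)))).1 (mem_sup_left (mem_RR x y))

theorem inv_pow_mul_pow_mem (hx : x ∈ NN K) (e : x⁻¹ * y ∈ K) (k : ℕ) : (x ^ k)⁻¹ * y ^ k ∈ K := by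
  induction k with
  | zero => simp
  | succ k ih =>
    have := mul_mem (conj_mem_of_mem_normalizer' hx ih) e
    convert this using 1
    rw [pow_succ, pow_succ]; group

theorem Ori.pow (o : Ori r x y) (k : ℕ) : Ori r (x ^ k) (y ^ k) :=
  Ori.of_mem o (pow_mem (RR_norm x y) k) (inv_pow_mul_pow_mem (RR_norm x y) (mem_RR x y) k)

theorem Ori.relt (o : Ori r x y) : ∃ a : ℕ, (x⁻¹ * y) ^ r ^ a = 1 :=
  isPGroup_iff_mem.1 o _ (mem_RR x y)

theorem FS.QV_gen (_h : FS p r X) (H : Subgroup G) :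
    QV r X H ≤ closure {g | g ∈ QV r X H ∧ ∃ a : ℕ, g ^ r ^ a = 1} :=
  QV_le_iff.2 fun _ hy _ hz hy' hz' o => subset_closure ⟨mem_QV hy hz hy' hz' o, o.relt⟩

/-- the `r`-elements of `N ⟨x⟩` lie in `N` -/
theorem FS.relt_mem (h : FS p r X) (hx : x ∈ X) (hN : x ∈ NN N) (hg : g ∈ N ⊔ zpowers x)
    (e : ∃ a : ℕ, g ^ r ^ a = 1) : g ∈ N := by
  obtain ⟨n, hn, k, e1⟩ := ba_mem_sup hN hg
  have h1 := ba_pow ((NN N).pow_mem hN k) hn p
  rw [← pow_mul, mul_comm k p, pow_mul, h.pow_eq_one hx, one_pow, inv_one, mul_one, ← e1] at h1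
  obtain ⟨a, ha⟩ := e
  have h2 : g ∈ zpowers (g ^ p) := by
    rw [mem_zpowers_pow_iff]
    exact Nat.Coprime.coprime_dvd_right (orderOf_dvd_of_pow_eq_one ha)
      (Nat.Coprime.pow_right a ((Nat.coprime_primes h.pp h.rp).2 h.rne.symm))
  exact zpowers_le.2 h1 h2

theorem FS.mem_of_sup (h : FS p r X) (hx : x ∈ X) (hN : x ∈ NN N) (hy : y ∈ N ⊔ zpowers x)
    (hz : z ∈ N ⊔ zpowers x) (o : Ori r y z) : y⁻¹ * z ∈ N :=
  h.relt_mem hx hN (mul_mem (inv_mem hy) hz) o.relt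

theorem FS.QV_le_of_norm (h : FS p r X) (hx : x ∈ X) (hN : x ∈ NN N) :
    QV r X (N ⊔ zpowers x) ≤ N :=
  QV_le_iff.2 fun _ _ _ _ hy hz o => h.mem_of_sup hx hN hy hz o

theorem FS.zp_eq (h : FS p r X) (hx : x ∈ X) (hy : y ∈ zpowers x) (hy1 : y ≠ 1) :
    zpowers y = zpowers x := by
  refine eq_of_le_of_card_ge (zpowers_le.2 hy) ?_
  rw [Nat.card_zpowers, Nat.card_zpowers, h.ord x hx, h.ord y (h.pw x hx y hy hy1)]

theorem FS.zp_symm (h : FS p r X) (hx : x ∈ X) (hy : y ∈ zpowers x) (hy1 : y ≠ 1) :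
    x ∈ zpowers y := by
  rw [h.zp_eq hx hy hy1]; exact mem_zpowers x

/-- every point has a generator oriented with respect to `x` -/
theorem FS.ex' (h : FS p r X) (hx : x ∈ X) (hy : y ∈ X) :
    ∃ y' ∈ X, y' ∈ zpowers y ∧ y ∈ zpowers y' ∧ Ori r x y' := by
  obtain ⟨y', h1, h2, h3⟩ := h.ex x hx y hy
  exact ⟨y', h1, h2, h.zp_symm hy h2 (h.ne_one h1), h3⟩

theorem FS.eq_one (h : FS p r X) (hx : x ∈ X) (hg : g ∈ zpowers x) (e : ∃ a : ℕ, g ^ r ^ a = 1) :
    g = 1 :=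
  mem_bot.1 (h.relt_mem hx (N := ⊥) (mem_normalizer_iff_cj.2 (cj_bot x)) (mem_sup_right hg) e)

theorem FS.eq_of_ori (h : FS p r X) (hx : x ∈ X) (hy : y ∈ zpowers x) (o : Ori r x y) : x = y :=
  inv_mul_eq_one.1 (h.eq_one hx (mul_mem (inv_mem (mem_zpowers x)) hy) o.relt)

theorem FS.ori_uniq (h : FS p r X) (hx : x ∈ X) (hy : y ∈ X) (hz : z ∈ zpowers y) (o : Ori r x y)
    (o' : Ori r x z) : y = z := by
  have h1 := h.mem_of_sup hx (RR_norm x y) (mem_sup_right (mem_zpowers x))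
    (zpowers_le.2 (mem_line x y) hz) o'
  refine h.eq_of_ori hy hz (Ori.of_mem o (RR_norm' x y) ?_)
  simpa [mul_assoc] using mul_mem (inv_mem (mem_RR x y)) h1

theorem FS.QV_le_of_pt (h : FS p r X) (hx : x ∈ X) (hn : x ∈ NN K)
    (e : ∀ y ∈ X, y ∈ H → Ori r x y → x⁻¹ * y ∈ K) : QV r X H ≤ K := by
  have k : ∀ y ∈ X, y ∈ H → y ∈ K ⊔ zpowers x := fun y hy hy' => by
    obtain ⟨y', h1, h2, h3, o⟩ := h.ex' hx hy
    refine zpowers_le.2 ?_ h3
    have := mul_mem (mem_sup_right (mem_zpowers x) : x ∈ K ⊔ zpowers x)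
      (mem_sup_left (e y' h1 (zpowers_le.2 hy' h2) o))
    rwa [mul_inv_cancel_left] at this
  exact QV_le_iff.2 fun y hy z hz hy' hz' o => h.mem_of_sup hx hn (k y hy hy') (k z hz hz') o

theorem FS.exists_conj' (h : FS p r X) (hx : x ∈ X) (hy : y ∈ X) (hR : Ori r x y) :
    ∃ u ∈ RR x y, y = u * x * u⁻¹ := by
  have : Fact p.Prime := ⟨h.pp⟩
  have hn := RR_norm x y
  have hx1 : x ^ p ^ 1 = 1 := by rw [pow_one, h.pow_eq_one hx]
  have hy1 : y ^ p ^ 1 = 1 := by rw [pow_one, h.pow_eq_one hy]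
  have hS : IsSylowIn p (zpowers x) (RR x y ⊔ zpowers x) := by
    refine isSylowIn_of_maximal (isPGroup_zpowers_of_pow hx1) le_sup_right fun T hT h1 h2 g hg => ?_
    obtain ⟨n, hn', k, e⟩ := ba_mem_sup hn (h2 hg)
    have h3 : n ∈ T := by
      have := T.mul_mem hg (T.inv_mem (T.pow_mem (h1 (mem_zpowers x)) k))
      rwa [e, mul_inv_cancel_right] at this
    obtain ⟨a, ha⟩ := isPGroup_iff_mem.1 hT n h3
    obtain ⟨b, hb⟩ := isPGroup_iff_mem.1 hR n hn'
    rw [e, ba_eq_one h.pp h.rp h.rne ha hb, one_mul]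
    exact pow_mem (mem_zpowers x) k
  obtain ⟨g, hg, e⟩ := hS.exists_conj_mem (mem_line x y) (isPGroup_zpowers_of_pow hy1)
  obtain ⟨n, hn', k, e'⟩ := ba_mem_sup hn (inv_mem hg)
  refine ⟨n, hn', ?_⟩
  have e1 : n⁻¹ * y * n ∈ zpowers x := by
    have := mul_mem (mul_mem (pow_mem (mem_zpowers x) k) e) (inv_mem (pow_mem (mem_zpowers x) k))
    convert this using 1
    rw [show g = (n * x ^ k)⁻¹ by rw [← e', inv_inv]]
    group
  have e2 := h.eq_of_ori hx e1 (Ori.of_mem hR hn (by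
    have := mul_mem (mul_mem (conj_mem_of_mem_normalizer' hn (inv_mem hn')) (mem_RR x y)) hn'
    convert this using 1
    group))
  calc y = n * (n⁻¹ * y * n) * n⁻¹ := by group
    _ = _ := by rw [← e2]

theorem FS.exists_conj (h : FS p r X) (hx : x ∈ X) (hy : y ∈ X) :
    ∃ u : G, y ∈ zpowers (u * x * u⁻¹) := by
  obtain ⟨y', h1, -, h3, o⟩ := h.ex' hx hy
  obtain ⟨u, -, rfl⟩ := h.exists_conj' hx h1 o
  exact ⟨u, h3⟩

/-- `Q = [Q, x]` -/
theorem FS.QV_le_comm (h : FS p r X) (hx : x ∈ X) (hx' : x ∈ H) :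
    QV r X H ≤ closure {g | ∃ u ∈ QV r X H, g = x⁻¹ * u * x * u⁻¹} := by
  refine h.QV_le_of_pt hx (mem_normalizer_of_cj_le ?_) fun y hy hy' o => ?_
  · rw [cj, MonoidHom.map_closure, closure_le]
    rintro _ ⟨_, ⟨u, hu, rfl⟩, rfl⟩
    exact subset_closure ⟨_, h.QV_conj hx' hu, by simp [mul_assoc]⟩
  obtain ⟨u, hu, e⟩ := h.exists_conj' hx hy o
  exact subset_closure ⟨u, h.RR_le_QV hx hy hx' hy' o hu, by rw [e]; group⟩

theorem FS.comm_of_zp (h : FS p r X) (hx : x ∈ X) (hy : y ∈ zpowers x) (hy1 : y ≠ 1)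
    (e : g * y = y * g) : g * x = x * g :=
  (mem_C1.1 (zpowers_le.2 (mem_C1.2 e.symm : y ∈ C1 g) (h.zp_symm hx hy hy1))).symm

/-- an element of a normalized subgroup not containing `x` moves `x` to an oriented point -/
theorem FS.ori_of_norm (h : FS p r X) (hx : x ∈ X) (hN : x ∈ NN N) (hx' : x ∉ N) (hu : u ∈ N) :
    Ori r x (u * x * u⁻¹) := by
  obtain ⟨y, h1, h2, -, o⟩ := h.ex' hx (h.conj x hx u)
  have m : u * x * u⁻¹ ∈ N ⊔ zpowers x := mul_mem (mul_mem (mem_sup_left hu)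
    (mem_sup_right (mem_zpowers x))) (inv_mem (mem_sup_left hu))
  have h3 := h.mem_of_sup hx hN (mem_sup_right (mem_zpowers x)) (zpowers_le.2 m h2) o
  obtain ⟨k, rfl⟩ := mem_powers_iff_mem_zpowers.2 h2
  have h4 : x⁻¹ * x ^ k ∈ N := by
    have := mul_mem (mul_mem (conj_mem_of_mem_normalizer' hN (inv_mem hu)) h3) hu
    convert this using 1
    simp only [conj_pow]; group
  by_cases e : x⁻¹ * x ^ k = 1
  · rw [inv_mul_eq_one] at e
    simpa only [conj_pow, ← e] using o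
  · exact (hx' (zpowers_le.2 h4 (h.zp_symm hx
      (mul_mem (inv_mem (mem_zpowers x)) (pow_mem (mem_zpowers x) k)) e))).elim

theorem FS.mem_zp_of_comm (h : FS p r X) (hx : x ∈ X) (hy : y ∈ X) (e : x * y = y * x) :
    y ∈ zpowers x := by
  obtain ⟨y', h1, h2, h3, o⟩ := h.ex' hx hy
  have c : Commute x⁻¹ y' :=
    Commute.inv_left (mem_C1.1 (zpowers_le.2 (mem_C1.2 e.symm : y ∈ C1 x) h2)).symm
  obtain ⟨b, hb⟩ := o.relt
  have := ba_eq_one (a := 1) h.pp h.rp h.rne (by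
    rw [pow_one, c.mul_pow, inv_pow, h.pow_eq_one hx, h.pow_eq_one h1, inv_one, one_mul]) hb
  rwa [inv_mul_eq_one.1 this]

theorem T2.eq_of_ab (h : T2 p r X) {A : Subgroup G} (hA : Ab A) (hx : x ∈ X) (hn : x ∈ NN A)
    (hy : y ∈ X) (o : Ori r x y) (e : x⁻¹ * y ∈ A) : x = y :=
  h.nab x hx y hy o fun a ha b hb => hA a (RR_le hn e ha) b (RR_le hn e hb)

theorem T2.comm_of_ab (h : T2 p r X) {A : Subgroup G} (hA : Ab A) (hx : x ∈ X) (hn : x ∈ NN A)
    (hu : u ∈ A) : u * x = x * u := by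
  by_cases m : x ∈ A
  · exact hA u hu x m
  have h1 := h.eq_of_ab hA hx hn (h.conj x hx u) (h.toFS.ori_of_norm hx hn m hu) (by
    have := A.mul_mem (conj_mem_of_mem_normalizer' hn hu) (A.inv_mem hu)
    convert this using 1
    group)
  calc u * x = u * x * u⁻¹ * u := by group
    _ = x * u := by rw [← h1]

theorem FS.comm_of_center (h : FS p r X) (hx : x ∈ X) (e : br v x ∈ center G) :
    v * x = x * v := by
  have c := mem_center_iff.1 e x
  have h1 := h.mem_zp_of_comm hx (h.conj x hx v) (by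
    calc x * (v * x * v⁻¹) = x * br v x * x := by simp only [br]; group
      _ = _ := by rw [c]; simp only [br]; group)
  by_cases e1 : br v x = 1
  · exact commutatorElement_eq_one_iff_mul_comm.1 e1
  · exact h.comm_of_zp hx (mul_mem h1 (inv_mem (mem_zpowers x))) e1 (mem_center_iff.1 e v)

theorem MC.exists_ne (h : MC p r X) (x : G) (hx : x ∈ X) : ∃ y ∈ X, Ori r x y ∧ x ≠ y := by
  by_contra hc
  push Not at hc
  refine h.bad (IsPGroup.of_bot.to_le (h.toFS.QV_le_of_pt hx (mem_normalizer_iff_cj.2 (cj_bot x))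
    fun y hy _ o => ?_))
  rw [← hc y hy o, inv_mul_cancel]
  exact one_mem _

theorem MC.exists_pt (h : MC p r X) : ∃ x, x ∈ X := by
  by_contra hc
  exact h.bad (IsPGroup.of_bot.to_le (QV_le_iff.2 fun y hy => (hc ⟨y, hy⟩).elim))

theorem MC.mem_center (h : MC p r X) (e : ∀ x ∈ X, v * x = x * v) : v ∈ center G := by
  have := h.gen (C1 v) fun x hx => mem_C1.2 (e x hx).symm
  exact mem_center_iff.2 fun g => mem_C1.1 (this.ge (mem_top g))

/-- `Z(G / Z(G)) = 1` -/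
theorem MC.mem_center' (h : MC p r X) (e : ∀ x ∈ X, br v x ∈ center G) : v ∈ center G :=
  h.mem_center fun x hx => h.toFS.comm_of_center hx (e x hx)

theorem MC.not_center (h : MC p r X) (hx : x ∈ X) : x ∉ center G := fun hc =>
  h.toFS.ne_one hx (h.toFS.eq_one hx (mem_zpowers x) (isPGroup_iff_mem.1 h.zr x hc))

/-- a subgroup containing all conjugates of a point is everything -/
theorem MC.gen' (h : MC p r X) (hx : x ∈ X) (e : ∀ g : G, g * x * g⁻¹ ∈ H) : H = ⊤ :=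
  h.gen H fun y hy => by
    obtain ⟨u, hu⟩ := h.toFS.exists_conj hx hy
    exact zpowers_le.2 (e u) hu

theorem MC.sup_eq_top (h : MC p r X) (hx : x ∈ X) : QV r X ⊤ ⊔ zpowers x = ⊤ := by
  refine h.gen _ fun y hy => ?_
  obtain ⟨y', h1, -, h3, o⟩ := h.toFS.ex' hx hy
  refine zpowers_le.2 ?_ h3
  have := mul_mem (mem_sup_right (mem_zpowers x) : x ∈ QV r X ⊤ ⊔ zpowers x)
    (mem_sup_left (mem_QV hx h1 (mem_top _) (mem_top _) o))
  rwa [mul_inv_cancel_left] at this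

theorem MC.le_center (h : MC p r X) (hN : N.Normal) (hx : x ∈ X)
    (e : ∀ n ∈ N, br n x ∈ center G) : N ≤ center G := by
  intro n hn
  have := h.gen' (H := C1 n) hx fun u => mem_C1.2 (by
    have h1 := h.toFS.comm_of_center hx (e _ (hN.conj_mem n hn u⁻¹))
    calc u * x * u⁻¹ * n = u * (x * (u⁻¹ * n * u⁻¹⁻¹)) * u⁻¹ := by group
      _ = n * (u * x * u⁻¹) := by rw [← h1]; group)
  exact mem_center_iff.2 fun g => mem_C1.1 (this.ge (mem_top g))

/-- an `r`-group normalized by a point, together with the point, generates a proper subgroup -/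
theorem MC.sup_ne_top (h : MC p r X) (hx : x ∈ X) (hN : IsPGroup r N) (hn : x ∈ NN N) :
    N ⊔ zpowers x ≠ ⊤ :=
  h.ne_top (hN.to_le (h.toFS.QV_le_of_norm hx hn))

/-- if the normalizer of a member centralizes it, the class of `x` is an oriented `F`-set -/
theorem FS.fsU (h : FS p r X) (hx : x ∈ X)
    (e : ∀ g : G, g * x * g⁻¹ ∈ zpowers x → g * x * g⁻¹ = x) :
    FsU.FS p r {y | ∃ g : G, y = g * x * g⁻¹} := by
  refine ⟨h.pp, h.p2, h.rp, h.rne, ?_, ?_, ?_⟩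
  · rintro _ ⟨g, rfl⟩
    exact h.ord _ (h.conj x hx g)
  · rintro _ ⟨g, rfl⟩ k
    exact ⟨k * g, by group⟩
  · rintro _ ⟨g, rfl⟩ _ ⟨k, rfl⟩
    obtain ⟨y, h1, h2, -, o⟩ := h.ex' (h.conj x hx g) (h.conj x hx k)
    obtain ⟨u, -, e1⟩ := h.exists_conj' (h.conj x hx g) h1 o
    have h3 := e (k⁻¹ * u * g) (by
      rw [← cj_zpowers, mem_cj, e1] at h2
      convert h2 using 1
      group)
    have h4 : y = k * x * k⁻¹ := by
      calc y = k * (k⁻¹ * u * g * x * (k⁻¹ * u * g)⁻¹) * k⁻¹ := by rw [e1]; group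
        _ = _ := by rw [h3]
    exact h4 ▸ o

theorem FS.QV_le_QQ (h : FS p r X) (hx : x ∈ X)
    (e : ∀ g : G, g * x * g⁻¹ ∈ zpowers x → g * x * g⁻¹ = x) :
    QV r X ⊤ ≤ QQ {y | ∃ g : G, y = g * x * g⁻¹} ⊤ :=
  h.QV_le_of_pt hx ((h.fsU hx e).QQ_norm (mem_top _)) fun y hy _ o => by
    obtain ⟨u, -, e1⟩ := h.exists_conj' hx hy o
    exact mem_QQ ⟨1, by simp⟩ ⟨u, e1⟩ (mem_top _) (mem_top _)

/-- in a minimal counterexample a member is not centralized by its normalizer -/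
theorem MC.exists_tw (h : MC p r X) (hx : x ∈ X) :
    ∃ g : G, g * x * g⁻¹ ∈ zpowers x ∧ g * x * g⁻¹ ≠ x := by
  by_contra hc
  push Not at hc
  have f := h.toFS.fsU hx hc
  refine h.bad ((FsU.T2.main ⟨f, fun y hy z hz => h.nab y ?_ z ?_ (f.pg y hy z hz)⟩).to_le
    (h.toFS.QV_le_QQ hx hc))
  · obtain ⟨g, rfl⟩ := hy
    exact h.conj x hx g
  · obtain ⟨g, rfl⟩ := hz
    exact h.conj x hx g

theorem MC.normal_eq_top (h : MC p r X) (hN : N.Normal) (hx : x ∈ X) (e : x ∈ N) : N = ⊤ :=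
  h.gen' hx fun g => hN.conj_mem _ e g

theorem MC.perf (h : MC p r X) (hN : N.Normal) (hx : x ∈ X) (e : N ⊔ zpowers x = ⊤) : N = ⊤ := by
  obtain ⟨g, h1, h2⟩ := h.exists_tw hx
  obtain ⟨n, hn, k, e1⟩ := ba_mem_sup (hol_NN hN x) (e.ge (mem_top g))
  have h3 : g * x * g⁻¹ * x⁻¹ ∈ N := by
    have := mul_mem hn (hN.conj_mem _ (inv_mem hn) x)
    convert this using 1
    rw [e1]; group
  exact h.normal_eq_top hN hx (zpowers_le.2 h3 (h.toFS.zp_symm hx
    (mul_mem h1 (inv_mem (mem_zpowers x))) fun e => h2 (mul_inv_eq_one.1 e)))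

theorem MC.commutator_eq_top (h : MC p r X) : commutator G = ⊤ := by
  obtain ⟨x, hx⟩ := h.exists_pt
  refine h.perf inferInstance hx (h.gen' hx fun g => ?_)
  have := mul_mem (mem_sup_left (commutator_mem_commutator (mem_top g) (mem_top x)) :
    ⁅g, x⁆ ∈ commutator G ⊔ zpowers x) (mem_sup_right (mem_zpowers x))
  rwa [commutatorElement_def, inv_mul_cancel_right] at this

end CfsgLib.FsV
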