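import Cfsg.Agent.Lib.FsV.Hol

set_option autoImplicit false
set_option linter.unusedSectionVars false

namespace CfsgLib.FsV

open Subgroup CfsgLib.Tech CfsgLib.FsU

universe u

variable {G : Type u} [Group G] [Finite G] {p r : ℕ} {X : Set G} {H K M M' N : Subgroup G}
  {x y z g t u v : G}

theorem blk_mem (h : FS p r X) (e : ∀ y ∈ X, y ∈ K → g * y * g⁻¹ ∈ K) :
    g ∈ normalizer (X ∩ (K : Set G)) :=
  mem_normalizer_fintype fun n hn => ⟨h.conj n hn.1 g, e n hn.1 hn.2⟩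

theorem blk_le (h : FS p r X) (K : Subgroup G) : K ≤ normalizer (X ∩ (K : Set G)) := fun _ hg =>
  blk_mem h fun _ _ hy => mul_mem (mul_mem hg hy) (inv_mem hg)

theorem blk_ne (h : MC p r X) (hK : K ≠ ⊤) (hx : x ∈ X) (hx' : x ∈ K) :
    normalizer (X ∩ (K : Set G)) ≠ ⊤ := fun e => hK (h.gen' hx fun u =>
  ((mem_set_normalizer_iff.1 (e ▸ mem_top u) x).1 ⟨hx, hx'⟩).2)

theorem blk_zp (h : MC p r X) (hx : x ∈ X) : zpowers x ≠ ⊤ := by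
  simpa using h.sup_ne_top hx (N := ⊥) IsPGroup.of_bot (mem_normalizer_iff_cj.2 (cj_bot x))

theorem blk_nc (h : MC p r X) (hx : x ∈ X) : ∃ y ∈ X, Ori r x y ∧ ¬ RR x y ≤ center G := by
  obtain ⟨y, hy, o, ne⟩ := h.exists_ne x hx
  exact ⟨y, hy, o, fun e => ne (h.nab x hx y hy o fun a _ b hb => mem_center_iff.1 (e hb) a)⟩

theorem MC.exists_blk (h : MC p r X) (hH : H ≠ ⊤) :
    ∃ M : Subgroup G, Blk X M ∧ ∀ x ∈ X, x ∈ H → x ∈ M := by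
  wlog hp : ∃ x ∈ X, x ∈ H generalizing H
  · obtain ⟨x, hx⟩ := h.exists_pt
    obtain ⟨M, hM, -⟩ := this (blk_zp h hx) ⟨x, hx, mem_zpowers x⟩
    exact ⟨M, hM, fun y hy hy' => (hp ⟨y, hy, hy'⟩).elim⟩
  obtain ⟨x, hx, hx'⟩ := hp
  obtain ⟨K, ⟨hK, l⟩, mx⟩ := Set.exists_max_image {K : Subgroup G | K ≠ ⊤ ∧ ∀ x ∈ X, x ∈ H → x ∈ K}
    (fun K => (X ∩ (K : Set G)).ncard) (Set.toFinite _) ⟨H, hH, fun _ _ h => h⟩
  refine ⟨_, ⟨blk_ne h hK hx (l x hx hx'), fun K' hK' l' => ?_⟩,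
    fun y hy hy' => blk_le h.toFS K (l y hy hy')⟩
  have s : X ∩ (K : Set G) ⊆ X ∩ (K' : Set G) := fun y hy => ⟨hy.1, l' y hy.1 (blk_le h.toFS K hy.2)⟩
  rw [Set.eq_of_subset_of_ncard_le s (mx K' ⟨hK', fun y hy hy' => (s ⟨hy, l y hy hy'⟩).2⟩)]
  exact blk_le h.toFS K'

theorem Blk.exists_pt (hM : Blk X M) (h : MC p r X) : ∃ x ∈ X, x ∈ M := by
  by_contra hn
  obtain ⟨x, hx⟩ := h.exists_pt
  exact hn ⟨x, hx, hM.mx _ (blk_zp h hx) (fun y hy hy' => (hn ⟨y, hy, hy'⟩).elim) (mem_zpowers x)⟩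

theorem Blk.cj (hM : Blk X M) (h : FS p r X) (g : G) : Blk X (cj g M) := by
  refine ⟨fun e => hM.ne (cj_injective g (e.trans (cj_top g).symm)), fun K hK l => ?_⟩
  rw [← cj_le_cj_iff g, cj_cj_inv g K |>.symm, cj_le_cj_iff, cj_le_cj_iff]
  exact hM.mx _ (fun e => hK (cj_injective g⁻¹ (e.trans (cj_top _).symm))) fun y hy hy' =>
    mem_cj.2 (by rw [inv_inv]; exact l _ (h.conj y hy g) (conj_mem_cj.2 hy'))

theorem MC.exists_blk_pair (h : MC p r X) (hx : x ∈ X) (hy : y ∈ X) :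
    ∃ M : Subgroup G, Blk X M ∧ x ∈ M ∧ y ∈ M := by
  obtain ⟨y', h1, -, h3, o⟩ := h.toFS.ex' hx hy
  obtain ⟨M, hM, e⟩ := h.exists_blk (h.sup_ne_top hx o (RR_norm x y'))
  exact ⟨M, hM, e x hx (mem_sup_right (mem_zpowers x)), zpowers_le.2 (e y' h1 (mem_line x y')) h3⟩

theorem Blk.exists_out (hM : Blk X M) (h : MC p r X) : ∃ y ∈ X, y ∉ M := by
  by_contra hn
  exact hM.ne (h.gen M fun y hy => by_contra fun hy' => hn ⟨y, hy, hy'⟩)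

theorem Blk.mem_of_norm (hM : Blk X M) (h : MC p r X)
    (e : ∀ y ∈ X, y ∈ M → g * y * g⁻¹ ∈ M) : g ∈ M := by
  obtain ⟨x, hx, hx'⟩ := hM.exists_pt h
  exact hM.mx _ (blk_ne h hM.ne hx hx') (fun _ _ hy => blk_le h.toFS M hy) (blk_mem h.toFS e)

theorem Blk.pt_C1 (hM : Blk X M) (h : MC p r X) (hz : z ∈ ZV r X M) (hy : y ∈ X) (hy' : y ∈ M) :
    y ∈ C1 z := mem_C1.2 ((h.at hM.ne hy hy').comm_of_Z hz).symm

theorem Blk.C1_le (hM : Blk X M) (h : MC p r X) (hz : z ∈ ZV r X M) (hz' : z ∉ center G) :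
    C1 z ≤ M := hM.mx _ (C1_ne_top hz') fun _ => hM.pt_C1 h hz

theorem Blk.mem_of_br (hM : Blk X M) (h : MC p r X) (hz : z ∈ ZV r X M) (hz' : z ∉ center G)
    (e : br g z ∈ center G) : g ∈ M :=
  hM.mem_of_norm h fun y hy hy' => hM.C1_le h hz hz' (mem_C1.2 (by
    have c := mem_C1.1 (hM.pt_C1 h hz hy hy')
    calc g * y * g⁻¹ * z = g * y * g⁻¹ * (br g z)⁻¹ * (g * z * g⁻¹) := by simp only [br]; group
      _ = (br g z)⁻¹ * g * (y * z) * g⁻¹ := by rw [mem_center_iff.1 (inv_mem e)]; group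
      _ = _ := by rw [c]; simp only [br]; group))

theorem Blk.eq_of_Z (hM : Blk X M) (hM' : Blk X M') (h : MC p r X) (hz : z ∈ ZV r X M)
    (hz' : z ∈ ZV r X M') (hc : z ∉ center G) : M = M' :=
  hM.eq_of_le hM' fun _ hy hy' => hM'.C1_le h hz' hc (hM.pt_C1 h hz hy hy')

end CfsgLib.FsV
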