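import Cfsg.Agent.Lib.FsU.Main

/-! Vocabulary for conjugation and power closed sets `X` of elements of odd prime order `p` such
that any two members `⟨x⟩, ⟨y⟩` have generators differing by an element of an invariant
`r`-group (the unoriented version of `Lib/FsU`; see plans/CYQ.md). -/

set_option autoImplicit false

namespace CfsgLib.FsV

open Subgroup CfsgLib.Tech CfsgLib.FsU

universe u

variable {G : Type u} [Group G]

/-- oriented pairs -/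
def Ori (r : ℕ) (x y : G) : Prop := IsPGroup r (RR x y)

/-- the group generated by the quotients of the oriented points of `H` -/
def QV (r : ℕ) (X : Set G) (H : Subgroup G) : Subgroup G :=
  closure {g | ∃ y ∈ X, ∃ z ∈ X, y ∈ H ∧ z ∈ H ∧ Ori r y z ∧ g = y⁻¹ * z}

/-- the centre of `QV r X H` -/
def ZV (r : ℕ) (X : Set G) (H : Subgroup G) : Subgroup G :=
  QV r X H ⊓ centralizer (QV r X H : Set G)

/-- an unoriented `F`-set -/
structure FS (p r : ℕ) (X : Set G) : Prop where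
  pp : p.Prime
  p2 : p ≠ 2
  rp : r.Prime
  rne : r ≠ p
  ord : ∀ x ∈ X, orderOf x = p
  conj : ∀ x ∈ X, ∀ g : G, g * x * g⁻¹ ∈ X
  pw : ∀ x ∈ X, ∀ y ∈ zpowers x, y ≠ 1 → y ∈ X
  ex : ∀ x ∈ X, ∀ y ∈ X, ∃ y' ∈ X, y' ∈ zpowers y ∧ Ori r x y'

/-- an unoriented `F`-set with non-abelian lines -/
structure T2 (p r : ℕ) (X : Set G) : Prop extends FS p r X where
  nab : ∀ x ∈ X, ∀ y ∈ X, Ori r x y → Ab (RR x y) → x = y
  p3 : r = 2 → p ≠ 3
  un : r = 2 → ∀ x ∈ X, ∀ y ∈ X, ∀ z ∈ X, ∀ w ∈ X, Ori r x y → Ori r z w → x ≠ y → z ≠ w →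
    Nat.card (RR x y) = Nat.card (RR z w)
  an : r = 2 → ∀ x ∈ X, ∀ y ∈ X, Ori r x y → x⁻¹ * y * (x⁻¹ * y) = 1 → x = y

/-- a minimal counterexample -/
structure MC (p r : ℕ) (X : Set G) : Prop extends T2 p r X where
  gen : ∀ H : Subgroup G, (∀ x ∈ X, x ∈ H) → H = ⊤
  zr : IsPGroup r (center G)
  good : ∀ H : Subgroup G, H ≠ ⊤ → IsPGroup r (QV r X H)
  bad : ¬ IsPGroup r (QV r X ⊤)

/-- a good subgroup `H` with a point `x` -/
structure At (p r : ℕ) (X : Set G) (H : Subgroup G) (x : G) : Prop where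
  t2 : T2 p r X
  pg : IsPGroup r (QV r X H)
  mem : x ∈ X
  memH : x ∈ H

/-- the stabilizer of a block -/
structure Blk (X : Set G) (M : Subgroup G) : Prop where
  ne : M ≠ ⊤
  mx : ∀ K : Subgroup G, K ≠ ⊤ → (∀ x ∈ X, x ∈ M → x ∈ K) → K ≤ M

variable {p r : ℕ} {X : Set G} {H K M : Subgroup G} {x y z g u : G}

theorem mem_ZV : u ∈ ZV r X H ↔ u ∈ QV r X H ∧ ∀ v ∈ QV r X H, v * u = u * v := by
  simp [ZV, mem_centralizer_iff]

theorem ZV_le (r : ℕ) (X : Set G) (H : Subgroup G) : ZV r X H ≤ QV r X H := inf_le_left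

theorem ab_ZV (r : ℕ) (X : Set G) (H : Subgroup G) : Ab (ZV r X H) :=
  fun _ ha _ hb => (mem_ZV.1 hb).2 _ (ZV_le r X H ha)

theorem mem_QV (hy : y ∈ X) (hz : z ∈ X) (hy' : y ∈ H) (hz' : z ∈ H) (o : Ori r y z) :
    y⁻¹ * z ∈ QV r X H :=
  subset_closure ⟨y, hy, z, hz, hy', hz', o, rfl⟩

theorem QV_le_iff :
    QV r X H ≤ K ↔ ∀ y ∈ X, ∀ z ∈ X, y ∈ H → z ∈ H → Ori r y z → y⁻¹ * z ∈ K := by
  rw [QV, closure_le]
  exact ⟨fun h y hy z hz hy' hz' o => h ⟨y, hy, z, hz, hy', hz', o, rfl⟩,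
    by rintro h _ ⟨y, hy, z, hz, hy', hz', o, rfl⟩; exact h y hy z hz hy' hz' o⟩

theorem QV_le (r : ℕ) (X : Set G) (H : Subgroup G) : QV r X H ≤ H :=
  QV_le_iff.2 fun _ _ _ _ hy hz _ => H.mul_mem (H.inv_mem hy) hz

theorem QV_mono (h : ∀ y ∈ X, y ∈ H → y ∈ K) : QV r X H ≤ QV r X K :=
  QV_le_iff.2 fun y hy z hz hy' hz' o => mem_QV hy hz (h y hy hy') (h z hz hz') o

theorem cj_RR (g x y : G) : cj g (RR x y) = RR (g * x * g⁻¹) (g * y * g⁻¹) :=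
  map_RR (MulAut.conj g).toMonoidHom x y

theorem Ori.conj (o : Ori r x y) (g : G) : Ori r (g * x * g⁻¹) (g * y * g⁻¹) := by
  rw [Ori, ← cj_RR]
  exact o.map _

theorem Ori.of_mem (hK : IsPGroup r K) (hx : x ∈ NN K) (h : x⁻¹ * y ∈ K) : Ori r x y :=
  hK.to_le (RR_le hx h)

theorem Ori.refl (r : ℕ) (x : G) : Ori r x x :=
  Ori.of_mem (K := ⊥) IsPGroup.of_bot (mem_normalizer_iff_cj.2 (cj_bot x)) (by simp)

theorem FS.cj_QV (h : FS p r X) (g : G) (H : Subgroup G) :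
    cj g (QV r X H) = QV r X (cj g H) := by
  have key : ∀ (g : G) (H : Subgroup G), cj g (QV r X H) ≤ QV r X (cj g H) := by
    intro g H
    rw [← cj_le_cj_iff g⁻¹, cj_inv_cj, QV_le_iff]
    intro y hy z hz hy' hz' o
    rw [mem_cj]
    have := mem_QV (h.conj y hy g) (h.conj z hz g) (conj_mem_cj.2 hy') (conj_mem_cj.2 hz') (o.conj g)
    simpa [mul_assoc] using this
  refine le_antisymm (key g H) ?_
  have := cj_mono g (key g⁻¹ (cj g H))
  rwa [cj_cj_inv, cj_inv_cj] at this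

theorem FS.cj_ZV (h : FS p r X) (g : G) (H : Subgroup G) :
    cj g (ZV r X H) = ZV r X (cj g H) := by
  rw [ZV, ZV, cj_inf, cj_centralizer, h.cj_QV]

theorem FS.NN_QV (h : FS p r X) (hg : g ∈ NN H) : g ∈ NN (QV r X H) := by
  rw [mem_normalizer_iff_cj] at hg ⊢
  rw [h.cj_QV, hg]

theorem FS.NN_ZV (h : FS p r X) (hg : g ∈ NN H) : g ∈ NN (ZV r X H) := by
  rw [mem_normalizer_iff_cj] at hg ⊢
  rw [h.cj_ZV, hg]

theorem FS.QV_norm (h : FS p r X) (hg : g ∈ H) : g ∈ NN (QV r X H) := h.NN_QV (le_normalizer hg)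

theorem FS.ZV_norm (h : FS p r X) (hg : g ∈ H) : g ∈ NN (ZV r X H) := h.NN_ZV (le_normalizer hg)

theorem FS.QV_conj (h : FS p r X) (hg : g ∈ H) (hu : u ∈ QV r X H) : g * u * g⁻¹ ∈ QV r X H :=
  conj_mem_of_mem_normalizer (h.QV_norm hg) hu

theorem FS.ZV_conj (h : FS p r X) (hg : g ∈ H) (hu : u ∈ ZV r X H) : g * u * g⁻¹ ∈ ZV r X H :=
  conj_mem_of_mem_normalizer (h.ZV_norm hg) hu

theorem FS.QV_top_normal (h : FS p r X) : (QV r X ⊤).Normal :=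
  ⟨fun _ hu _ => h.QV_conj (mem_top _) hu⟩

theorem FS.RR_le_QV (h : FS p r X) (hx : x ∈ X) (hy : y ∈ X) (hx' : x ∈ H) (hy' : y ∈ H)
    (o : Ori r x y) : RR x y ≤ QV r X H :=
  RR_le (h.QV_norm hx') (mem_QV hx hy hx' hy' o)

theorem FS.pow_eq_one (h : FS p r X) (hx : x ∈ X) : x ^ p = 1 := by
  rw [← h.ord x hx, pow_orderOf_eq_one]

theorem FS.ne_one (h : FS p r X) (hx : x ∈ X) : x ≠ 1 := fun e => by
  have := h.ord x hx
  rw [e, orderOf_one] at this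
  exact h.pp.one_lt.ne this

theorem At.fs (A : At p r X H x) : FS p r X := A.t2.toFS

theorem At.of_mem (A : At p r X H x) (hy : y ∈ X) (hy' : y ∈ H) : At p r X H y :=
  ⟨A.t2, A.pg, hy, hy'⟩

/-- in a good subgroup, points differing by an element of `Q` are oriented -/
theorem At.ori (A : At p r X H x) (e : x⁻¹ * y ∈ QV r X H) : Ori r x y :=
  Ori.of_mem A.pg (A.fs.QV_norm A.memH) e

theorem At.ori_conj (A : At p r X H x) (hu : u ∈ QV r X H) : Ori r x (u * x * u⁻¹) :=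
  A.ori (by simpa [mul_assoc] using mul_mem (A.fs.QV_conj (inv_mem A.memH) hu) (inv_mem hu))

theorem MC.at (h : MC p r X) (hH : H ≠ ⊤) (hx : x ∈ X) (hx' : x ∈ H) : At p r X H x :=
  ⟨h.toT2, h.good H hH, hx, hx'⟩

theorem MC.ne_top (h : MC p r X) (hH : IsPGroup r (QV r X H)) : H ≠ ⊤ := by
  rintro rfl
  exact h.bad hH

theorem Blk.eq_of_le {M' : Subgroup G} (hM : Blk X M) (hM' : Blk X M')
    (h : ∀ x ∈ X, x ∈ M → x ∈ M') : M = M' :=
  have h1 : M' ≤ M := hM.mx M' hM'.ne h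
  le_antisymm (hM'.mx M hM.ne fun _ _ hx => h1 hx) h1

end CfsgLib.FsV
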