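import Cfsg.Agent.Lib.FsV.Defs

set_option autoImplicit false
set_option linter.unusedSectionVars false

namespace CfsgLib.FsV

open Subgroup CfsgLib.Tech CfsgLib.FsU
open scoped commutatorElement

universe u

variable {G : Type u} [Group G] [Finite G] {p r : ℕ} {X : Set G} {H K M M' N : Subgroup G}
  {x y z g t u v : G}

/-- the projection onto `[W, a]` -/
def PP {R : Type*} [Ring R] (k n : ℕ) (a : R) : R := 1 - (k : R) * ∑ i ∈ Finset.range n, a ^ i

section

variable {R : Type*} [Ring R] {k n : ℕ} {a b B : R}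

theorem PP_left (hk : (k : R) * n = 1) (e : (a - 1) * B = 0) : PP k n a * B = 0 := by
  have h1 : ∀ i : ℕ, a ^ i * B = B := fun i => by
    induction i with
    | zero => simp
    | succ i ih =>
      rw [sub_mul, one_mul, sub_eq_zero] at e
      rw [pow_succ, mul_assoc, e, ih]
  rw [PP, sub_mul, one_mul, mul_assoc, Finset.sum_mul, Finset.sum_congr rfl fun i _ => h1 i,
    Finset.sum_const, Finset.card_range, nsmul_eq_mul, ← mul_assoc, hk, one_mul, sub_self]

theorem PP_right (hk : (k : R) * n = 1) (e : B * (a - 1) = 0) : B * PP k n a = 0 := by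
  have h1 : ∀ i : ℕ, B * a ^ i = B := fun i => by
    induction i with
    | zero => simp
    | succ i ih =>
      rw [mul_sub, mul_one, sub_eq_zero] at e
      rw [pow_succ', ← mul_assoc, e, ih]
  rw [PP, mul_sub, mul_one, ← mul_assoc, ← (Nat.cast_commute k B).eq, mul_assoc, Finset.mul_sum,
    Finset.sum_congr rfl fun i _ => h1 i,
    Finset.sum_const, Finset.card_range, nsmul_eq_mul, ← mul_assoc, hk, one_mul, sub_self]

theorem PP_mul (ha : a ^ n = 1) : PP k n a * (a - 1) = a - 1 := by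
  rw [PP, sub_mul, one_mul, mul_assoc, geom_sum_mul, ha, sub_self, mul_zero, sub_zero]

theorem mul_PP (ha : a ^ n = 1) : (a - 1) * PP k n a = a - 1 := by
  rw [PP, mul_sub, mul_one, ← mul_assoc, ← (Nat.cast_commute k (a - 1)).eq, mul_assoc, mul_geom_sum, ha,
    sub_self, mul_zero, sub_zero]

theorem PP_comm (ha : a ^ n = 1) : PP k n a * a = a * PP k n a := by
  linear_combination (norm := noncomm_ring) PP_mul (k := k) ha - mul_PP (k := k) ha

theorem PP_idem (hk : (k : R) * n = 1) (ha : a ^ n = 1) : PP k n a * PP k n a = PP k n a := by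
  have := PP_left (a := a) (B := PP k n a - 1) hk (by rw [mul_sub, mul_PP ha, mul_one, sub_self])
  linear_combination (norm := noncomm_ring) this

theorem PP_pow (hk : (k : R) * n = 1) (ha : a ^ n = 1) {i j : ℕ} (e : (a ^ i) ^ j = a) :
    PP k n (a ^ i) = PP k n a := by
  have hb : (a ^ i) ^ n = 1 := by rw [← pow_mul, mul_comm, pow_mul, ha, one_pow]
  have k1 : ∀ (c : R) (m : ℕ), c ^ n = 1 → (c ^ m - 1) * (PP k n c - 1) = 0 ∧
      (PP k n c - 1) * (c ^ m - 1) = 0 := fun c m hc => by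
    constructor
    · rw [← geom_sum_mul, mul_assoc, mul_sub, mul_PP hc, mul_one, sub_self, mul_zero]
    · rw [← mul_geom_sum, ← mul_assoc, sub_mul, PP_mul hc, one_mul, sub_self, zero_mul]
  have h1 := PP_left hk (k1 a i ha).1
  have h2 := (k1 _ j hb).2
  rw [e] at h2
  linear_combination (norm := noncomm_ring) PP_right hk h2 - h1

theorem PP_conj {s s' : R} (h1 : s * s' = 1) (h2 : s' * s = 1) :
    PP k n (s * a * s') = s * PP k n a * s' := by
  have e : ∀ i : ℕ, (s * a * s') ^ i = s * a ^ i * s' := fun i => by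
    induction i with
    | zero => simp [h1]
    | succ i ih =>
      rw [pow_succ, ih, pow_succ]
      linear_combination (norm := noncomm_ring) s * a ^ i * h2 * a * s'
  rw [PP, PP, Finset.sum_congr rfl fun i _ => e i, ← Finset.sum_mul, ← Finset.mul_sum, mul_sub, sub_mul,
    mul_one, h1, ← mul_assoc s, ← (Nat.cast_commute k s).eq]
  simp only [mul_assoc]

end

/-- the ring form of an oriented pair -/
def OK {L R : Type*} [Group L] [Ring R] (φ : L →* R) (n : ℕ) (a b : L) : Prop :=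
  a ^ n = 1 ∧ ∃ T : Subgroup L, (∃ u ∈ T, b = u * a * u⁻¹) ∧ b * a⁻¹ ∈ T ∧
    ∀ c ∈ T, (φ a - 1) * ((φ c - 1) * (φ a - 1)) = 0 ∧ (φ b - 1) * ((φ c - 1) * (φ a - 1)) = 0

theorem OK.rel {L R : Type*} [Group L] [Ring R] {φ : L →* R} {k n : ℕ} {a b : L}
    (hk : (k : R) * n = 1) (o : OK φ n a b) :
    PP k n (φ a) * PP k n (φ b) * PP k n (φ a) = PP k n (φ a) ∧
      PP k n (φ b) * PP k n (φ a) * φ a = φ b * (PP k n (φ b) * PP k n (φ a)) := by
  obtain ⟨ha, T, ⟨u, hu, e⟩, hb, h⟩ := o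
  have ha' : φ a ^ n = 1 := by rw [← map_pow, ha, map_one]
  have hb' : φ b ^ n = 1 := by rw [← map_pow, e, conj_pow, ha, mul_one, mul_inv_cancel, map_one]
  have k1 : ∀ c ∈ T, PP k n (φ a) * (φ c - 1) * PP k n (φ a) = 0 := fun c hc =>
    PP_right hk (by rw [mul_assoc]; exact PP_left hk (h c hc).1)
  have k2 : ∀ c ∈ T, PP k n (φ b) * (φ c - 1) * PP k n (φ a) = 0 := fun c hc =>
    PP_right hk (by rw [mul_assoc]; exact PP_left hk (h c hc).2)
  have i := PP_idem hk ha'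
  constructor
  · have e1 : PP k n (φ b) = φ u * PP k n (φ a) * φ u⁻¹ := by
      rw [e, map_mul, map_mul, PP_conj (by rw [← map_mul, mul_inv_cancel, map_one])
        (by rw [← map_mul, inv_mul_cancel, map_one])]
    rw [e1]
    linear_combination (norm := noncomm_ring) k1 u hu * φ u⁻¹ * PP k n (φ a) + i * φ u⁻¹ * PP k n (φ a)
      + k1 _ (inv_mem hu) + i
  · have e1 : φ b = φ (b * a⁻¹) * φ a := by rw [← map_mul, inv_mul_cancel_right]
    have c1 := PP_comm (k := k) ha'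
    have c2 := PP_comm (k := k) hb'
    have := k2 _ hb
    generalize φ (b * a⁻¹) = s at e1 this
    linear_combination (norm := noncomm_ring) c2 * PP k n (φ a) - PP k n (φ b) * e1 * PP k n (φ a)
      + PP k n (φ b) * s * c1 - this * φ a

theorem ring_tw {L R : Type*} [Group L] [Finite L] [Ring R] (φ : L →* R) {k n : ℕ} (hn : n.Prime)
    (hk : (k : R) * n = 1) {x y z x1 x2 : L} (hx : orderOf x = n) (h1 : x1 ∈ zpowers x)
    (h2 : x2 ∈ zpowers x) (n1 : x1 ≠ 1) (n2 : x2 ≠ 1) (o1 : OK φ n x y) (o2 : OK φ n y x)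
    (o3 : OK φ n y z) (o4 : OK φ n z y) (o5 : OK φ n z x1) (o6 : OK φ n x1 z)
    (o7 : OK φ n y (y * z * y⁻¹)) (o8 : OK φ n (y * z * y⁻¹) x2) : x1 = x ∨ φ x = 1 := by
  have ha : φ x ^ n = 1 := by rw [← map_pow, o1.1, map_one]
  have hb : φ y ^ n = 1 := by rw [← map_pow, o2.1, map_one]
  have eP : ∀ w ∈ zpowers x, w ≠ 1 → PP k n (φ w) = PP k n (φ x) := fun w hw w1 => by
    have : Fact n.Prime := ⟨hn⟩
    have m : x ∈ zpowers w := by
      rw [eq_of_le_of_card_ge (zpowers_le.2 hw) (by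
        rw [Nat.card_zpowers, Nat.card_zpowers, hx]
        obtain ⟨i, rfl⟩ := mem_powers_iff_mem_zpowers.2 hw
        exact (orderOf_eq_prime (by simp only; rw [← pow_mul, mul_comm, pow_mul, o1.1, one_pow]) w1).ge)]
      exact mem_zpowers x
    obtain ⟨i, rfl⟩ := mem_powers_iff_mem_zpowers.2 hw
    obtain ⟨j, e⟩ := mem_powers_iff_mem_zpowers.2 m
    simp only at e ⊢
    rw [map_pow]
    exact PP_pow hk ha (j := j) (by rw [← map_pow, ← map_pow, e])
  have cm : ∀ w ∈ zpowers x, ∀ w' ∈ zpowers x, φ w * φ w' = φ w' * φ w := by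
    rintro _ ⟨i, rfl⟩ _ ⟨j, rfl⟩
    rw [← map_mul, ← map_mul, zpow_mul_comm]
  have canc : ∀ w ∈ zpowers x, ∀ w' ∈ zpowers x, w ≠ w' → ∀ B : R, (φ w - φ w') * B = 0 →
      PP k n (φ x) * B = 0 := fun w hw w' hw' ne B e => by
    rw [← eP (w'⁻¹ * w) (mul_mem (inv_mem hw') hw) fun e => ne (inv_mul_eq_one.1 e).symm]
    refine PP_left hk ?_
    have e1 : φ w'⁻¹ * φ w' = 1 := by rw [← map_mul, inv_mul_cancel, map_one]
    rw [map_mul]
    linear_combination (norm := noncomm_ring) φ w'⁻¹ * e + e1 * B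
  have y1 : φ y * φ y⁻¹ = 1 := by rw [← map_mul, mul_inv_cancel, map_one]
  have y2 : φ y⁻¹ * φ y = 1 := by rw [← map_mul, inv_mul_cancel, map_one]
  obtain ⟨a1, b1⟩ := o1.rel hk
  obtain ⟨a2, b2⟩ := o2.rel hk
  obtain ⟨a3, b3⟩ := o3.rel hk
  obtain ⟨a4, -⟩ := o4.rel hk
  obtain ⟨-, b5⟩ := o5.rel hk
  obtain ⟨a6, -⟩ := o6.rel hk
  obtain ⟨-, b7⟩ := o7.rel hk
  obtain ⟨-, b8⟩ := o8.rel hk
  rw [eP x1 h1 n1] at b5 a6
  rw [eP x2 h2 n2] at b8
  have eC : PP k n (φ (y * z * y⁻¹)) = φ y * PP k n (φ z) * φ y⁻¹ := by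
    rw [map_mul, map_mul, PP_conj y1 y2]
  have p1 := PP_mul (k := k) hb
  have p2 := mul_PP (k := k) ha
  have p3 := PP_comm (k := k) ha
  have p4 := PP_idem hk ha
  have q1 := PP_comm (k := k) hb
  have q2 := PP_comm (k := k) (show φ z ^ n = 1 by rw [← map_pow, o4.1, map_one])
  have q3 := PP_comm (k := k) (show φ (y * z * y⁻¹) ^ n = 1 by rw [← map_pow, o8.1, map_one])
  have c1 := cm x1 h1 x (mem_zpowers x)
  have c2 := cm x2 h2 x (mem_zpowers x)
  by_contra hc
  obtain ⟨hc1, hc2⟩ := not_or.1 hc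
  have d1 := canc x1 h1 x (mem_zpowers x) hc1
  have d2 := canc x1 h1 x2 h2
  have d3 := canc x2 h2 x (mem_zpowers x)
  generalize PP k n (φ (y * z * y⁻¹)) = Pd at *
  generalize PP k n (φ x) = Pa at *
  generalize PP k n (φ y) = Pb at *
  generalize PP k n (φ z) = Pc at *
  have E1 : Pa * Pc * Pb * Pa * φ x = φ x1 * (Pa * Pc * Pb * Pa) := by
    linear_combination (norm := noncomm_ring) Pa * Pc * b1 + Pa * b3 * Pa + b5 * Pb * Pa
      - Pa * Pc * q1 * Pa - Pa * q2 * Pb * Pa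
  have E2 : Pa * Pd * Pb * Pa * φ x = φ x2 * (Pa * Pd * Pb * Pa) := by
    linear_combination (norm := noncomm_ring) Pa * Pd * b1 + Pa * b7 * Pa + b8 * Pb * Pa
      - Pa * Pd * q1 * Pa - Pa * q3 * Pb * Pa
  have E3 : Pa * Pd * Pb * Pa * φ x = Pa * Pc * Pb * Pa + (φ x - 1) := by
    rw [eC]
    linear_combination (norm := noncomm_ring) Pa * φ y * Pc * φ y⁻¹ * b1 + Pa * φ y * Pc * y2 * Pb * Pa
      - Pa * p1 * Pc * Pb * Pa + b2 * Pc * Pb * Pa + (φ x - 1) * Pa * a3 * Pa + (φ x - 1) * a1 + p2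
  have E4 : (φ x1 - φ x2) * (Pa * Pc * Pb * Pa) = (φ x2 - φ x) * (φ x - 1) := by
    linear_combination (norm := noncomm_ring) E2 * φ x - E3 * φ x + φ x2 * E3 - E1
  have E5 : Pa * Pc * Pb * Pa * (Pb * Pc * Pa) = Pa := by
    linear_combination (norm := noncomm_ring) Pa * Pc * a2 * Pc * Pa + Pa * a4 * Pa + a6
  by_cases e : x1 = x2
  · subst e
    have := d1 (φ x - 1) (by linear_combination (norm := noncomm_ring) - E4)
    exact hc2 (by linear_combination (norm := noncomm_ring) this - p2 - p3)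
  · have k1 := d2 e (Pa * Pc * Pb * Pa * φ x - φ x * (Pa * Pc * Pb * Pa)) (by
      linear_combination (norm := noncomm_ring) E4 * φ x - φ x * E4 - c1 * (Pa * Pc * Pb * Pa)
        + c2 * (Pa * Pc * Pb * Pa) + c2 * φ x - c2)
    have k2 := d1 Pa (by
      linear_combination (norm := noncomm_ring) - (φ x1 - φ x) * E5 - E1 * (Pb * Pc * Pa)
        + k1 * (Pb * Pc * Pa) - p4 * Pc * Pb * Pa * φ x * (Pb * Pc * Pa)
        + p3 * (Pa * Pc * Pb * Pa) * (Pb * Pc * Pa) + φ x * p4 * Pc * Pb * Pa * (Pb * Pc * Pa))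
    exact hc2 (by linear_combination (norm := noncomm_ring) (φ x - 1) * k2 - (φ x - 1) * p4 - p2)

/-- the group form of an oriented pair acting on `W` -/
def OKG {L : Type*} [Group L] (W : Subgroup L) (n : ℕ) (a b : L) : Prop :=
  a ^ n = 1 ∧ ∃ T : Subgroup L, (∃ u ∈ T, b = u * a * u⁻¹) ∧ b * a⁻¹ ∈ T ∧
    ∀ c ∈ T, ∀ w ∈ W, Commute (br c (br a w)) a ∧ Commute (br c (br a w)) b

theorem ring_grp_tw {L : Type u} [Group L] [Finite L] {W : Subgroup L} (hW : W.Normal) (hab : Ab W)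
    {k n : ℕ} (hn : n.Prime) (hk : ∀ w ∈ W, w ^ (k * n) = w) {x y z x1 x2 : L} (hx : orderOf x = n)
    (h1 : x1 ∈ zpowers x) (h2 : x2 ∈ zpowers x) (n1 : x1 ≠ 1) (n2 : x2 ≠ 1) (o1 : OKG W n x y)
    (o2 : OKG W n y x) (o3 : OKG W n y z) (o4 : OKG W n z y) (o5 : OKG W n z x1) (o6 : OKG W n x1 z)
    (o7 : OKG W n y (y * z * y⁻¹)) (o8 : OKG W n (y * z * y⁻¹) x2) :
    x1 = x ∨ ∀ w ∈ W, Commute w x := by
  let _ : CommGroup W := { (inferInstance : Group W) with
    mul_comm := fun a b => Subtype.ext (hab a a.2 b b.2) }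
  let φ : L →* AddMonoid.End (Additive W) :=
    { toFun := fun g => MonoidHom.toAdditive (MulAut.conjNormal g).toMonoidHom
      map_one' := DFunLike.ext _ _ fun w => Subtype.ext (show 1 * (w.toMul : L) * 1⁻¹ = w.toMul by simp)
      map_mul' := fun a b => DFunLike.ext _ _ fun w => Subtype.ext
        (show a * b * (w.toMul : L) * (a * b)⁻¹ = a * (b * w.toMul * b⁻¹) * a⁻¹ by group) }
  have ap : ∀ g w, ((φ g w).toMul : L) = g * w.toMul * g⁻¹ := fun g w => rfl
  have sb : ∀ g w, (((φ g - 1) w).toMul : L) = br g w.toMul := fun g w => by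
    rw [show (φ g - 1) w = φ g w - w from rfl, toMul_sub, coe_div, ap, div_eq_mul_inv]
  have key : ∀ a c d : L, (∀ w ∈ W, Commute (br c (br a w)) d) →
      (φ d - 1) * ((φ c - 1) * (φ a - 1)) = 0 := fun a c d e => DFunLike.ext _ _ fun w => by
    rw [AddMonoid.End.zero_apply, ← toMul_eq_one, Subtype.ext_iff]
    simp only [AddMonoid.End.coe_mul, Function.comp_apply, sb]
    have := (e _ w.toMul.2).eq
    generalize br c (br a (w.toMul : L)) = s at this
    rw [OneMemClass.coe_one, br, ← this]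
    group
  have ok : ∀ a b, OKG W n a b → OK φ n a b := fun a b ⟨e1, T, e2, e3, e4⟩ =>
    ⟨e1, T, e2, e3, fun c hc => ⟨key a c a fun w hw => (e4 c hc w hw).1,
      key a c b fun w hw => (e4 c hc w hw).2⟩⟩
  refine (ring_tw φ hn (k := k) (DFunLike.ext _ _ fun w => ?_) hx h1 h2 n1 n2 (ok _ _ o1) (ok _ _ o2)
    (ok _ _ o3) (ok _ _ o4) (ok _ _ o5) (ok _ _ o6) (ok _ _ o7) (ok _ _ o8)).imp id fun e w hw => ?_
  · rw [← Nat.cast_mul, AddMonoid.End.natCast_apply]
    exact Subtype.ext (hk _ w.toMul.2)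
  · have := ap x (Additive.ofMul ⟨w, hw⟩)
    rw [e] at this
    exact (mul_inv_eq_iff_eq_mul.1 this.symm).symm

end CfsgLib.FsV
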