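import Cfsg.Agent.Lib.FsV.Aff
import Cfsg.Agent.Lib.FsV.Ring

set_option autoImplicit false
set_option linter.unusedSectionVars false

namespace CfsgLib.FsV

open Subgroup CfsgLib.Tech CfsgLib.FsU
open scoped commutatorElement

universe u

variable {G : Type u} [Group G] [Finite G] {p r : ℕ} {X : Set G} {H K M M' N : Subgroup G}
  {x y z g t u v : G}

/-- a transitive orientation is invariant under conjugation -/
theorem FS.tw_of_trans (h : FS p r X) (gen : ∀ H : Subgroup G, (∀ x ∈ X, x ∈ H) → H = ⊤)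
    (tr : ∀ x ∈ X, ∀ y ∈ X, ∀ z ∈ X, Ori r x y → Ori r y z → Ori r x z) (hx : x ∈ X) (g : G)
    (e : g * x * g⁻¹ ∈ zpowers x) : g * x * g⁻¹ = x := by
  have := gen (normalizer {y | y ∈ X ∧ Ori r x y}) fun y hy => by
    obtain ⟨s, h1, -, h3, o⟩ := h.ex' hx hy
    refine (zpowers_le (H := normalizer {y | y ∈ X ∧ Ori r x y})).2
      (mem_normalizer_fintype fun z hz => ⟨h.conj z hz.1 s, ?_⟩) h3
    have := (tr s h1 x hx z hz.1 o.symm hz.2).conj s
    rw [mul_inv_cancel_right] at this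
    exact tr x hx s h1 _ (h.conj z hz.1 s) o this
  exact (h.eq_of_ori hx e ((mem_set_normalizer_iff.1 (this.ge (mem_top g)) x).1 ⟨hx, Ori.refl r x⟩).2).symm

theorem MC.pre_nc (h : MC p r X) (hN : N.Normal) (hne : N ≠ ⊤) :
    ∃ O : Subgroup G, O.Normal ∧ IsPGroup r O ∧ ∀ n ∈ N, ∀ g : G, br n g ∈ O := by
  have hch := Core.pCore_characteristic r G
  have hO : (Cfsg.pCore r G).Normal := inferInstance
  refine ⟨Cfsg.pCore r G, hO, Core.isPGroup_pCore r G, ?_⟩
  let S : Subgroup G :=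
    { carrier := {g | ∀ n ∈ N, br n g ∈ Cfsg.pCore r G}
      one_mem' := fun n _ => by simp [br]
      mul_mem' := fun {a b} ha hb n hn => by
        have := mul_mem (ha n hn) (hO.conj_mem _ (hb n hn) a)
        convert this using 1
        simp only [br]; group
      inv_mem' := fun {a} ha n hn => by
        have := hO.conj_mem _ (inv_mem (ha n hn)) a⁻¹
        convert this using 1
        simp only [br]; group }
  have hS : S = ⊤ := h.gen S fun y hy n hn => by
    have h1 : N ⊔ zpowers y ≠ ⊤ := fun c => hne (h.perf hN hy c)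
    have h2 : QV r X (N ⊔ zpowers y) ⊓ N ≤ (Cfsg.pCore r N).map N.subtype :=
      Core.le_map_pCore inf_le_right (fun a ha => mem_normalizer_of_forall fun w hw =>
        ⟨h.toFS.QV_conj (mem_sup_left ha) hw.1, hN.conj_mem _ hw.2 a⟩)
        (h.good _ h1).to_inf_left
    refine Core.map_pCore_le_of_normal N (h2 (mem_inf.2 ⟨?_, ?_⟩))
    · have hy' : y ∈ N ⊔ zpowers y := mem_sup_right (mem_zpowers y)
      have := h.toFS.QV_conj hy' (mem_QV (h.conj y hy n) hy
        (mul_mem (mul_mem (mem_sup_left hn) hy') (inv_mem (mem_sup_left hn))) hy'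
        (h.toFS.ori_of_norm hy (hol_NN hN y) (fun e => hne (h.normal_eq_top hN hy e)) hn).symm)
      have := inv_mem this
      convert this using 1
      simp only [br]; group
    · have := N.mul_mem hn (hN.conj_mem _ (N.inv_mem hn) y)
      convert this using 1
      simp only [br]; group
  intro n hn g
  exact (hS.ge (mem_top g)) n hn

theorem MC.hol_ok (h : MC p r X) {V : Subgroup G} (hV : V.Normal) (hr : IsPGroup r V) (hx : x ∈ X)
    (hy : y ∈ X) (o : Ori r x y) :
    OKG (V.map (QuotientGroup.mk' (center G))) p (QuotientGroup.mk' (center G) x)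
      (QuotientGroup.mk' (center G) y) := by
  set π := QuotientGroup.mk' (center G) with hπ
  have hn : x ∈ NN (V ⊔ RR x y) :=
    Core.normalizer_inf_le_normalizer_sup _ _ ⟨hol_NN hV x, RR_norm x y⟩
  have hp : IsPGroup r (V ⊔ RR x y : Subgroup G) := hr.to_sup_of_normal_left o
  have hx' : x ∈ (V ⊔ RR x y) ⊔ zpowers x := mem_sup_right (mem_zpowers x)
  have hy' : y ∈ (V ⊔ RR x y) ⊔ zpowers x := (sup_le_sup_right le_sup_right _ : RR x y ⊔ zpowers x ≤ _) (mem_line x y)
  have A : At p r X ((V ⊔ RR x y) ⊔ zpowers x) x :=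
    ⟨h.toT2, hp.to_le (h.toFS.QV_le_of_norm hx hn), hx, hx'⟩
  obtain ⟨u, hu, e⟩ := h.toFS.exists_conj' hx hy o
  refine ⟨by rw [← map_pow, h.toFS.pow_eq_one hx, map_one], (RR x y).map π,
    ⟨_, mem_map_of_mem π hu, by rw [e, map_mul, map_mul, map_inv]⟩,
    ⟨_, conj_mem_of_mem_normalizer (RR_norm x y) (mem_RR x y), by
      simp only [map_mul, map_inv, mul_inv_cancel_left]⟩, ?_⟩
  rintro _ ⟨c, hc, rfl⟩ _ ⟨v, hv, rfl⟩
  have hv' : v ∈ (V ⊔ RR x y) ⊔ zpowers x := mem_sup_left (mem_sup_left hv)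
  have h1 : br x v ∈ QV r X ((V ⊔ RR x y) ⊔ zpowers x) := by
    have := h.toFS.QV_conj hx' (mem_QV (h.conj x hx v) hx
      (mul_mem (mul_mem hv' hx') (inv_mem hv')) hx' (Ori.of_mem hp hn (mem_sup_left (by
        simpa [mul_assoc] using mul_mem (hV.conj_mem _ hv x⁻¹) (inv_mem hv)))).symm)
    convert this using 1
    simp only [br]; group
  have h2 := A.br_mem (h.toFS.RR_le_QV hx hy hx' hy' o hc) h1
  have hbr : br (π c) (br (π x) (π v)) = π (br c (br x v)) := by simp only [br, map_mul, map_inv]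
  rw [hbr]
  exact ⟨Commute.map (A.comm_of_Z h2) π, Commute.map ((A.of_mem hy hy').comm_of_Z h2) π⟩

theorem MC.hol_step (h : MC p r X) {V : Subgroup G} (hV : V.Normal) (hr : IsPGroup r V)
    (hab : ∀ a ∈ V, ∀ b ∈ V, br a b ∈ center G) : V ≤ center G := by
  have : Fact r.Prime := ⟨h.rp⟩
  by_contra hc
  obtain ⟨x, hx⟩ := h.exists_pt
  obtain ⟨g, g1, g2⟩ := h.exists_tw hx
  refine g2 (h.toFS.tw_of_trans h.gen (fun x hx y hy z hz o o' => ?_) hx g g1)
  set π := QuotientGroup.mk' (center G) with hπ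
  have n1 : ∀ x ∈ X, π x ≠ 1 := fun x hx e => h.not_center hx ((QuotientGroup.eq_one_iff x).1 e)
  obtain ⟨x1, a1, a2, a3⟩ := h.ex z hz x hx
  obtain ⟨x2, b1, b2, b3⟩ := h.ex _ (h.conj z hz y) x hx
  have o'' : Ori r y (y * z * y⁻¹) := by simpa using o'.conj y
  obtain ⟨a, ha⟩ := IsPGroup.iff_card.1 hr
  obtain ⟨k, hk⟩ : ∃ k : ℕ, k * p ≡ 1 [MOD r ^ a] := by
    obtain ⟨k, hk⟩ := Nat.exists_mul_mod_eq_of_coprime (n := p) (k := r ^ a) 1
      (Nat.Coprime.pow_right a ((Nat.coprime_primes h.pp h.rp).2 h.rne.symm)) (pow_ne_zero a h.rp.ne_zero)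
    exact ⟨k, by rw [mul_comm]; exact hk.2⟩
  have := Fact.mk h.pp
  rcases ring_grp_tw (W := V.map π) (k := k) (hV.map π (QuotientGroup.mk'_surjective _)) (by
      rintro _ ⟨a, ha, rfl⟩ _ ⟨b, hb, rfl⟩
      exact hol_br_iff.1 (hab a ha b hb)) h.pp (by
      rintro _ ⟨v, hv, rfl⟩
      rw [← map_pow]
      congr 1
      conv_rhs => rw [← pow_one v]
      exact pow_eq_pow_iff_modEq.2 (hk.of_dvd (ha ▸ orderOf_dvd_natCard _ hv)))
    (orderOf_eq_prime (by rw [← map_pow, h.toFS.pow_eq_one hx, map_one]) (n1 x hx))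
    (by rw [← MonoidHom.map_zpowers]; exact mem_map_of_mem π a2)
    (by rw [← MonoidHom.map_zpowers]; exact mem_map_of_mem π b2) (n1 _ a1) (n1 _ b1)
    (h.hol_ok hV hr hx hy o) (h.hol_ok hV hr hy hx o.symm) (h.hol_ok hV hr hy hz o')
    (h.hol_ok hV hr hz hy o'.symm) (h.hol_ok hV hr hz a1 a3) (h.hol_ok hV hr a1 hz a3.symm)
    (by simpa only [map_mul, map_inv] using h.hol_ok hV hr hy (h.conj z hz y) o'')
    (by simpa only [map_mul, map_inv] using h.hol_ok hV hr (h.conj z hz y) b1 b3) with e | e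
  · have e1 : x⁻¹ * x1 ∈ center G := QuotientGroup.eq.1 e.symm
    have e2 := h.toFS.eq_one hx (mul_mem (inv_mem (mem_zpowers x)) a2) (isPGroup_iff_mem.1 h.zr _ e1)
    rw [inv_mul_eq_one.1 e2]
    exact a3.symm
  · exact (hc (h.le_center hV hx fun v hv => hol_br_iff.2 (e _ (mem_map_of_mem π hv)).eq)).elim

/-- `O_r(G) ≤ Z(G)` -/
theorem MC.hol (h : MC p r X) (hN : N.Normal) (hr : IsPGroup r N) : N ≤ center G := by
  have : Fact r.Prime := ⟨h.rp⟩
  induction hc : Nat.card N using Nat.strong_induction_on generalizing N with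
  | _ n ih =>
  by_cases hb : N = ⊥
  · rw [hb]; exact bot_le
  have hlt : ⁅N, N⁆ < N := by
    have := hr.isNilpotent
    have : Nontrivial N := (nontrivial_iff_ne_bot N).2 hb
    have h1 : commutator N < ⊤ := Group.IsSolvable.commutator_lt_top_of_nontrivial N
    rw [← Subgroup.map_subtype_commutator]
    have h2 := (map_lt_map_iff_of_injective N.subtype_injective).2 h1
    rwa [← MonoidHom.range_eq_map, range_subtype] at h2
  have h1 : ⁅N, N⁆ ≤ center G :=
    ih _ (hc ▸ Core.card_lt_of_lt hlt) inferInstance (hr.to_le hlt.le) rfl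
  exact h.hol_step hN hr fun a ha b hb => h1 (commutator_mem_commutator ha hb)

theorem MC.nc (h : MC p r X) (hN : N.Normal) : N ≤ center G ∨ N = ⊤ := by
  by_cases hne : N = ⊤
  · exact Or.inr hne
  · left
    obtain ⟨O, hO, hO', hb⟩ := h.pre_nc hN hne
    exact fun n hn => h.mem_center' fun y _ => h.hol hO hO' (hb n hn y)

theorem MC.NN_ne (h : MC p r X) (hr : IsPGroup r N) (hn : ¬ N ≤ center G) : NN N ≠ ⊤ := by
  intro e
  exact hn (h.hol (normalizer_eq_top_iff.1 e) hr)

end CfsgLib.FsV
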