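import Cfsg.Agent.Lib.FsV.Hol

set_option autoImplicit false
set_option linter.unusedSectionVars false

namespace CfsgLib.FsV

open Subgroup CfsgLib.Tech CfsgLib.FsU
open scoped commutatorElement

universe u

variable {G : Type u} [Group G] [Finite G] {p r : ℕ} {X : Set G} {H K M M' N : Subgroup G}
  {x y z g t u v : G}

theorem FS.QV_line (h : FS p r X) (hx : x ∈ X) (hy : y ∈ X) (o : Ori r x y) :
    QV r X (RR x y ⊔ zpowers x) = RR x y :=
  le_antisymm (h.QV_le_of_norm hx (RR_norm x y))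
    (h.RR_le_QV hx hy (mem_sup_right (mem_zpowers x)) (mem_line x y) o)

/-- an abelian line is a Frobenius group -/
theorem FS.ab_fpf (h : FS p r X) (hx : x ∈ X) (hy : y ∈ X) (o : Ori r x y) (ab : Ab (RR x y))
    (hu : u ∈ RR x y) (e : u * x = x * u) : u = 1 := by
  have g := h.QV_le_comm (H := RR x y ⊔ zpowers x) hx (mem_sup_right (mem_zpowers x))
  rw [h.QV_line hx hy o] at g
  exact (commutator_le.2 fun a ha b hb =>
      mem_bot.2 (commutatorElement_eq_one_iff_mul_comm.2 (ab a ha b hb)) : _ ≤ ⊥)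
      (cent_le_comm h.rp h.pp h.rne (h.pow_eq_one hx) o (RR_norm x y) g hu e)

theorem FS.ab_surj (h : FS p r X) (hx : x ∈ X) (hy : y ∈ X) (o : Ori r x y) (ab : Ab (RR x y))
    {a c : G} (ha : a ∈ zpowers x) (ha1 : a ≠ 1) (hc : c ∈ RR x y) :
    a * c ∈ X ∧ Ori r a (a * c) := by
  have na : a ∈ NN (RR x y) := zpowers_le.2 (RR_norm x y) ha
  obtain ⟨u, -, γ, hγ, q⟩ := surj (Q := RR x y) (Z := ⊥) (a := a) bot_le
    (fun g _ => mem_normalizer_iff_cj.2 (cj_bot g)) na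
    (mem_normalizer_iff_cj.2 (cj_bot _)) (fun u hu e => h.ab_fpf hx hy o ab hu
        (h.comm_of_zp hx ha ha1 (by
          rw [mem_bot, mul_inv_eq_one, mul_assoc, inv_mul_eq_iff_eq_mul] at e
          exact e))) hc
  refine ⟨?_, Ori.of_mem o na (by rwa [inv_mul_cancel_left])⟩
  rw [q, mem_bot.1 hγ]
  simpa [mul_assoc] using h.conj a (h.pw x hx a ha ha1) u

theorem ty_count {D : Type*} [DecidableEq D] (S : Finset D) (f : D → ℕ) (σ : ℕ → D → D) (hp : 1 < p)
    (h0 : ∀ E, σ 0 E = E) (hp' : ∀ E, σ p E = E) (hs : ∀ k E, σ k (σ 1 E) = σ (k + 1) E)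
    (hm : ∀ k, ∀ E ∈ S, σ k E ∈ S) (hi : ∀ k, Function.Injective (σ k))
    (h1 : ∑ E ∈ S, f E = S.card) (h2 : ∀ E ∈ S, p - 1 ≤ ∑ k ∈ Finset.Ico 1 p, f (σ k E)) :
    ∀ E ∈ S, f E = 1 := by
  have a1 : ∀ k, ∑ E ∈ S, f (σ k E) = S.card := fun k => by
    rw [← h1, ← Finset.sum_image (s := S) (g := σ k) (f := f) fun a _ b _ e => hi k e]
    congr 1
    exact Finset.eq_of_subset_of_card_le (Finset.image_subset_iff.2 (hm k))
      (Finset.card_image_of_injective _ (hi k)).ge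
  have a2 : ∀ E ∈ S, p - 1 = ∑ k ∈ Finset.Ico 1 p, f (σ k E) :=
    (Finset.sum_eq_sum_iff_of_le h2).1 (by
      rw [Finset.sum_comm, Finset.sum_congr rfl fun k _ => a1 k]
      simp [mul_comm])
  have a3 : ∀ E ∈ S, ∑ k ∈ Finset.range p, f (σ k E) = f E + (p - 1) := fun E hE => by
    rw [Finset.range_eq_Ico, Finset.sum_eq_sum_Ico_succ_bot (by omega), h0, ← a2 E hE]
  have a4 : ∀ E ∈ S, f (σ 1 E) = f E := fun E hE => by
    have b1 := a3 E hE
    have b2 := a3 _ (hm 1 E hE)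
    have b3 := Finset.sum_range_succ' (fun k => f (σ k E)) p
    rw [Finset.sum_range_succ, hp', h0] at b3
    simp only [hs] at b2
    omega
  have a5 : ∀ k, ∀ E ∈ S, f (σ k E) = f E := fun k => by
    induction k with
    | zero => exact fun E _ => by rw [h0]
    | succ k ih => exact fun E hE => by rw [← hs, ih _ (hm 1 E hE), a4 E hE]
  intro E hE
  have := a2 E hE
  rw [Finset.sum_congr rfl fun k _ => a5 k E hE, Finset.sum_const, Nat.card_Ico, smul_eq_mul] at this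
  exact (Nat.mul_right_inj (by omega)).1 (this.symm.trans (mul_one _).symm)

theorem FS.ty_inj (h : FS p r X) (hab : ∀ x ∈ X, ∀ y ∈ X, Ori r x y → Ab (RR x y)) (hx : x ∈ X)
    {d : G} (hd : d ∈ X) (h1 : x * u ∈ X) (o1 : Ori r x (x * u)) (h2 : x * v ∈ X)
    (o2 : Ori r x (x * v)) (e : zpowers (u * d * u⁻¹) = zpowers (v * d * v⁻¹)) : u = v := by
  classical
  let _ := Fintype.ofFinite G
  let _ := Fintype.ofFinite (Subgroup G)
  let T : Finset G := Finset.univ.filter fun w => x * w ∈ X ∧ Ori r x (x * w)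
  let S : Finset (Subgroup G) := Finset.univ.filter fun E => ∃ y ∈ X, E = zpowers y
  have mT : ∀ w, w ∈ T ↔ x * w ∈ X ∧ Ori r x (x * w) := fun w => by simp [T]
  have mS : ∀ E, E ∈ S ↔ ∃ y ∈ X, E = zpowers y := fun w => by simp [S]
  have key := ty_count S (fun E => (T.filter fun w => zpowers (w * d * w⁻¹) = E).card)
    (fun k E => cj (x ^ k) E) h.pp.one_lt (fun E => by rw [pow_zero, cj_one])
    (fun E => by rw [h.pow_eq_one hx, cj_one]) (fun k E => by rw [← cj_mul, ← pow_add])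
    (fun k E hE => by
      obtain ⟨y, hy, rfl⟩ := (mS E).1 hE
      exact (mS _).2 ⟨_, h.conj y hy _, cj_zpowers _ _⟩) (fun k _ _ e => cj_injective _ e) (by
      rw [← Finset.card_eq_sum_card_fiberwise fun w _ => (mS _).2 ⟨_, h.conj d hd w, rfl⟩]
      refine Finset.card_bij (fun w _ => zpowers (x * w)) (fun w hw => (mS _).2 ⟨_, ((mT w).1 hw).1, rfl⟩)
        (fun a ha b hb e => mul_left_cancel (h.ori_uniq hx ((mT a).1 ha).1 (e ▸ mem_zpowers _)
          ((mT a).1 ha).2 ((mT b).1 hb).2)) fun E hE => ?_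
      obtain ⟨y, hy, rfl⟩ := (mS E).1 hE
      obtain ⟨y', a1, a2, o⟩ := h.ex x hx y hy
      exact ⟨x⁻¹ * y', (mT _).2 (by rw [mul_inv_cancel_left]; exact ⟨a1, o⟩), by
        rw [mul_inv_cancel_left]; exact h.zp_eq hy a2 (h.ne_one a1)⟩) (fun E hE => by
      obtain ⟨y, hy, rfl⟩ := (mS E).1 hE
      obtain ⟨y', a1, a2, o⟩ := h.ex d hd y hy
      obtain ⟨c, hc, e⟩ := h.exists_conj' hd a1 o
      have n1 : ∀ a ∈ X, ∀ j ∈ Finset.Ico 1 p, a ^ j ≠ 1 := fun a ha j hj =>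
        pow_ne_one_of_lt_orderOf (by have := (Finset.mem_Ico.1 hj).1; omega)
          (by rw [h.ord a ha]; exact (Finset.mem_Ico.1 hj).2)
      calc p - 1 = ((Finset.Ico 1 p).image fun j => c * d ^ j).card := by
            rw [Finset.card_image_of_injOn, Nat.card_Ico]
            intro i hi j hj e
            exact pow_injOn_Iio_orderOf (by rw [h.ord d hd]; exact (Finset.mem_Ico.1 hi).2)
              (by rw [h.ord d hd]; exact (Finset.mem_Ico.1 hj).2) (mul_left_cancel e)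
        _ ≤ ((Finset.Ico 1 p).biUnion fun k => (T.filter fun w =>
            zpowers (w * d * w⁻¹) = cj (x ^ k) (zpowers y)).image fun w => (x ^ k)⁻¹ * w).card := by
            refine Finset.card_le_card (Finset.image_subset_iff.2 fun j hj => ?_)
            have b1 := (h.ab_surj hd a1 o (hab d hd _ a1 o) (pow_mem (mem_zpowers d) j) (n1 d hd j hj)
              (conj_mem_of_mem_normalizer' (pow_mem (RR_norm d y') j) hc)).1
            rw [show d ^ j * ((d ^ j)⁻¹ * c * d ^ j) = c * d ^ j by group] at b1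
            obtain ⟨x', c1, c2, c3, o'⟩ := h.ex' b1 hx
            obtain ⟨k, hk, e'⟩ := Finset.mem_image.1 (mem_zpowers_iff_mem_range_orderOf.1 (inv_mem c2))
            rw [h.ord x hx, Finset.mem_range] at hk
            refine Finset.mem_biUnion.2 ⟨k, Finset.mem_Ico.2 ⟨Nat.pos_of_ne_zero ?_, hk⟩,
              Finset.mem_image.2 ⟨x ^ k * (c * d ^ j), Finset.mem_filter.2 ⟨(mT _).2 ?_, ?_⟩,
                inv_mul_cancel_left _ _⟩⟩
            · rintro rfl
              exact h.ne_one c1 (by rw [← inv_inj, ← e', pow_zero, inv_one])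
            · rw [e']
              exact h.ab_surj c1 b1 o'.symm (hab _ c1 _ b1 o'.symm) c3 (h.ne_one hx) (mem_RR _ _)
            · rw [← h.zp_eq hy a2 (h.ne_one a1), cj_zpowers, e]
              congr 1
              group
        _ ≤ _ := Finset.card_biUnion_le.trans (Finset.sum_le_sum fun k _ => Finset.card_image_le))
    _ ((mS _).2 ⟨_, h.conj d hd v, rfl⟩)
  exact Finset.card_le_one.1 key.le u (Finset.mem_filter.2 ⟨(mT u).2 ⟨h1, o1⟩, e⟩) v
    (Finset.mem_filter.2 ⟨(mT v).2 ⟨h2, o2⟩, rfl⟩)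

/-- with abelian lines the orientation is transitive -/
theorem FS.ty_trans (h : FS p r X) (hab : ∀ x ∈ X, ∀ y ∈ X, Ori r x y → Ab (RR x y)) (y : G)
    (hy : y ∈ X) (x : G) (hx : x ∈ X) (z : G) (hz : z ∈ X) (o1 : Ori r y x) (o2 : Ori r x z) :
    Ori r y z := by
  obtain ⟨z', a1, -, a3, o⟩ := h.ex' hy hz
  obtain ⟨j, rfl⟩ := mem_powers_iff_mem_zpowers.2 a3
  simp only at hz o2 ⊢
  by_cases e : y⁻¹ * y ^ j = 1
  · have := o.pow j
    rwa [← inv_mul_eq_one.1 e] at this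
  have b1 := (h.ab_surj hy a1 o (hab y hy _ a1 o) (mul_mem (inv_mem (mem_zpowers y))
    (pow_mem (mem_zpowers y) j)) e (inv_pow_mul_pow_mem (RR_norm y z') (mem_RR y z') j)).1
  rw [mul_assoc, mul_inv_cancel_left] at b1
  have := h.ty_inj hab hx b1 (u := x⁻¹ * y) (v := x⁻¹ * z' ^ j) (by rwa [mul_inv_cancel_left])
    (by rw [mul_inv_cancel_left]; exact o1.symm) (by rwa [mul_inv_cancel_left])
    (by rwa [mul_inv_cancel_left]) (by congr 1; group)
  rw [← mul_left_cancel this]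
  exact Ori.refl r y

theorem FS.typeI (h : FS p r X) (gen : ∀ H : Subgroup G, (∀ x ∈ X, x ∈ H) → H = ⊤)
    (hab : ∀ x ∈ X, ∀ y ∈ X, Ori r x y → Ab (RR x y)) : IsPGroup r (QV r X ⊤) := by
  rcases X.eq_empty_or_nonempty with rfl | ⟨x, hx⟩
  · exact IsPGroup.of_bot.to_le (QV_le_iff.2 fun _ hy => hy.elim)
  have e := h.tw_of_trans gen (h.ty_trans hab) hx
  have f := h.fsU hx e
  refine (f.typeI fun y hy z hz => hab y ?_ z ?_ (f.pg y hy z hz)).to_le (h.QV_le_QQ hx e)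
  · obtain ⟨g, rfl⟩ := hy
    exact h.conj x hx g
  · obtain ⟨g, rfl⟩ := hz
    exact h.conj x hx g

theorem Ori.map {L : Type u} [Group L] (o : Ori r x y) (f : G →* L) : Ori r (f x) (f y) := by
  rw [Ori, ← map_RR]
  exact IsPGroup.map o f

theorem FS.map {L : Type u} [Group L] (h : FS p r X) (f : G →* L) (hf : Function.Surjective f)
    (h1 : ∀ x ∈ X, f x ≠ 1) : FS p r (f '' X) := by
  have := Fact.mk h.pp
  refine ⟨h.pp, h.p2, h.rp, h.rne, ?_, ?_, ?_, ?_⟩
  · rintro _ ⟨x, hx, rfl⟩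
    exact orderOf_eq_prime (by rw [← map_pow, h.pow_eq_one hx, map_one]) (h1 x hx)
  · rintro _ ⟨x, hx, rfl⟩ g
    obtain ⟨g, rfl⟩ := hf g
    exact ⟨_, h.conj x hx g, by rw [map_mul, map_mul, map_inv]⟩
  · rintro _ ⟨x, hx, rfl⟩ y hy y1
    rw [← MonoidHom.map_zpowers] at hy
    obtain ⟨y, hy, rfl⟩ := hy
    exact ⟨y, h.pw x hx y hy fun e => y1 (by rw [e, map_one]), rfl⟩
  · rintro _ ⟨x, hx, rfl⟩ _ ⟨y, hy, rfl⟩
    obtain ⟨y', a1, a2, o⟩ := h.ex x hx y hy
    exact ⟨_, ⟨y', a1, rfl⟩, by rw [← MonoidHom.map_zpowers]; exact mem_map_of_mem f a2, o.map f⟩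

/-- an oriented pair in the image lifts to an oriented pair -/
theorem FS.lift {L : Type u} [Group L] [Finite L] (h : FS p r X) {f : G →* L} (h' : FS p r (f '' X))
    (hx : x ∈ X) (hy : y ∈ X) (o : Ori r (f x) (f y)) : ∃ y' ∈ X, f y' = f y ∧ Ori r x y' := by
  obtain ⟨y', a1, a2, o'⟩ := h.ex x hx y hy
  exact ⟨y', a1, (h'.ori_uniq ⟨x, hx, rfl⟩ ⟨y, hy, rfl⟩ (by
    rw [← MonoidHom.map_zpowers]; exact mem_map_of_mem f a2) o (o'.map f)).symm, o'⟩

theorem map_QV_le {L : Type u} [Group L] (f : G →* L) (X : Set G) :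
    (QV r X ⊤).map f ≤ QV r (f '' X) ⊤ :=
  map_le_iff_le_comap.2 (QV_le_iff.2 fun y hy z hz _ _ o => by
    rw [mem_comap, map_mul, map_inv]
    exact mem_QV ⟨y, hy, rfl⟩ ⟨z, hz, rfl⟩ (mem_top _) (mem_top _) (o.map f))

/-- the lines are not all abelian modulo the centre -/
theorem MC.not_cent (h : MC p r X)
    (e : ∀ x ∈ X, ∀ y ∈ X, Ori r x y → ∀ a ∈ RR x y, ∀ b ∈ RR x y, br a b ∈ center G) : False := by
  have f := h.toFS.map (QuotientGroup.mk' (center G)) (QuotientGroup.mk'_surjective _)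
    fun x hx e => h.not_center hx ((QuotientGroup.eq_one_iff x).1 e)
  have := f.typeI (fun H hH => by
      have := h.gen (H.comap (QuotientGroup.mk' (center G))) fun x hx => hH _ ⟨x, hx, rfl⟩
      rw [← map_comap_eq_self_of_surjective (QuotientGroup.mk'_surjective _) H, this,
        map_top_of_surjective _ (QuotientGroup.mk'_surjective _)]) (by
      rintro _ ⟨x, hx, rfl⟩ _ ⟨y, hy, rfl⟩ o
      obtain ⟨y', a1, a2, o'⟩ := h.toFS.lift f hx hy o
      rw [← a2, ← map_RR]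
      rintro _ ⟨a, ha, rfl⟩ _ ⟨b, hb, rfl⟩
      exact hol_br_iff.1 (e x hx y' a1 o' a ha b hb))
  exact h.bad (((this.to_le (map_QV_le _ X)).comap_of_ker_isPGroup _
    (by rw [QuotientGroup.ker_mk']; exact h.zr)).to_le (le_comap_map _ _))

end CfsgLib.FsV
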