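import Cfsg.Agent.Lib.FsV.Odd3
import Cfsg.Agent.Lib.FsV.TypeI

set_option autoImplicit false
set_option linter.unusedSectionVars false

namespace CfsgLib.FsV

open Subgroup CfsgLib.Tech CfsgLib.FsU
open scoped commutatorElement

universe u

variable {G : Type u} [Group G] [Finite G] {p r : ℕ} {X : Set G} {H K M M' N : Subgroup G}
  {x y z g t u v : G}

theorem ori_sub {H : Subgroup G} {x y : H} : Ori r x y ↔ Ori r (x : G) y := by
  refine ⟨fun o => o.map H.subtype, fun o => ?_⟩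
  have : IsPGroup r (RR (H.subtype x) (H.subtype y)) := o
  rw [← map_RR] at this
  exact this.of_equiv (equivMapOfInjective _ _ H.subtype_injective).symm

theorem FS.sub (h : FS p r X) (H : Subgroup G) : FS p r (H.subtype ⁻¹' X) := by
  refine ⟨h.pp, h.p2, h.rp, h.rne, fun x hx => (orderOf_coe x).symm.trans (h.ord _ hx),
    fun x hx g => h.conj _ hx g, ?_, fun x hx y hy => ?_⟩
  · rintro x hx _ ⟨k, rfl⟩ e
    exact h.pw _ hx _ ⟨k, rfl⟩ fun e' => e (Subtype.ext e')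
  · obtain ⟨_, a1, ⟨k, rfl⟩, o⟩ := h.ex _ hx _ hy
    exact ⟨y ^ k, a1, ⟨k, rfl⟩, ori_sub.2 o⟩

theorem T2.sub (h : T2 p r X) (H : Subgroup G) : T2 p r (H.subtype ⁻¹' X) := by
  refine ⟨h.toFS.sub H, fun x hx y hy o e => Subtype.ext (h.nab _ hx _ hy (ori_sub.1 o) ?_), h.p3,
    fun hr x hx y hy z hz w hw o o' n n' => ?_,
    fun hr x hx y hy o e => Subtype.ext (h.an hr _ hx _ hy (ori_sub.1 o) (congrArg Subtype.val e))⟩
  · show Ab (RR (H.subtype x) (H.subtype y))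
    rw [← map_RR]
    rintro _ ⟨a, ha, rfl⟩ _ ⟨b, hb, rfl⟩
    rw [← map_mul, ← map_mul, e a ha b hb]
  · have := h.un hr _ hx _ hy _ hz _ hw (ori_sub.1 o) (ori_sub.1 o') (fun e => n (Subtype.ext e))
      fun e => n' (Subtype.ext e)
    rwa [← map_RR, ← map_RR, card_map_of_injective H.subtype_injective,
      card_map_of_injective H.subtype_injective] at this

theorem QV_sub (H : Subgroup G) : QV r X H ≤ (QV r (H.subtype ⁻¹' X) ⊤).map H.subtype :=
  QV_le_iff.2 fun y hy z hz hy' hz' o =>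
    ⟨(⟨y, hy'⟩ : H)⁻¹ * ⟨z, hz'⟩, mem_QV (X := H.subtype ⁻¹' X) (y := ⟨y, hy'⟩) (z := ⟨z, hz'⟩) hy hz
      (mem_top _) (mem_top _) ((ori_sub (x := ⟨y, hy'⟩) (y := ⟨z, hz'⟩)).2 o), rfl⟩

theorem T2.map {L : Type u} [Group L] [Finite L] (h : T2 p r X) (f : G →* L)
    (hf : Function.Surjective f) (h1 : ∀ x ∈ X, f x ≠ 1)
    (h2 : ∀ g : G, (∃ a : ℕ, g ^ r ^ a = 1) → f g = 1 → g = 1) : T2 p r (f '' X) := by
  have fs := h.toFS.map f hf h1
  have k : ∀ x y, Ori r x y → ∀ a ∈ RR x y, f a = 1 → a = 1 := fun x y o a ha =>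
    h2 a (isPGroup_iff_mem.1 o a ha)
  have cd : ∀ x y, Ori r x y → Nat.card (RR (f x) (f y)) = Nat.card (RR x y) := fun x y o => by
    rw [← map_RR]
    exact Nat.card_image_of_injOn fun a ha b hb e => inv_mul_eq_one.1
      (k x y o _ (mul_mem (inv_mem ha) hb) (by rw [map_mul, map_inv, e, inv_mul_cancel]))
  refine ⟨fs, ?_, h.p3, fun hr => ?_, fun hr => ?_⟩
  · rintro _ ⟨x, hx, rfl⟩ _ ⟨y, hy, rfl⟩ o e
    obtain ⟨y', a1, a2, o'⟩ := h.toFS.lift fs hx hy o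
    rw [← a2, ← map_RR] at e
    rw [← a2]
    refine congrArg _ (h.nab x hx y' a1 o' fun a ha b hb =>
      commutatorElement_eq_one_iff_mul_comm.1 (k x y' o' _
        (mul_mem (mul_mem (mul_mem ha hb) (inv_mem ha)) (inv_mem hb)) ?_))
    exact (map_commutatorElement f a b).trans
      (commutatorElement_eq_one_iff_mul_comm.2 (e _ ⟨a, ha, rfl⟩ _ ⟨b, hb, rfl⟩))
  · rintro _ ⟨x, hx, rfl⟩ _ ⟨y, hy, rfl⟩ _ ⟨z, hz, rfl⟩ _ ⟨w, hw, rfl⟩ o o' n n'
    obtain ⟨y', a1, a2, o1⟩ := h.toFS.lift fs hx hy o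
    obtain ⟨w', b1, b2, o2⟩ := h.toFS.lift fs hz hw o'
    rw [← a2] at n ⊢
    rw [← b2] at n' ⊢
    rw [cd _ _ o1, cd _ _ o2]
    exact h.un hr x hx _ a1 z hz _ b1 o1 o2 (fun e => n (congrArg f e)) fun e => n' (congrArg f e)
  · rintro _ ⟨x, hx, rfl⟩ _ ⟨y, hy, rfl⟩ o e
    obtain ⟨y', a1, a2, o'⟩ := h.toFS.lift fs hx hy o
    rw [← a2] at e ⊢
    exact congrArg _ (h.an hr x hx _ a1 o' (k x y' o' _ (mul_mem (mem_RR _ _) (mem_RR _ _))
      (by simpa only [map_mul, map_inv] using e)))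

theorem main_aux (hmc : ∀ (G : Type u) [Group G] [Finite G] (X : Set G), ¬ MC p r X) (n : ℕ) :
    ∀ (G : Type u) [Group G] [Finite G] (X : Set G), Nat.card G = n → T2 p r X →
    IsPGroup r (QV r X ⊤) := by
  induction n using Nat.strong_induction_on with
  | _ n ih =>
  intro G _ _ X hn h
  have := Fact.mk h.rp
  have good : ∀ H : Subgroup G, H ≠ ⊤ → IsPGroup r (QV r X H) := fun H hH => by
    refine ((ih _ ?_ H _ rfl (h.sub H)).map H.subtype).to_le (QV_sub H)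
    rw [← hn, ← H.card_mul_index]
    exact lt_mul_of_one_lt_right Nat.card_pos (one_lt_index_of_ne_top hH)
  by_contra bad
  by_cases zr : IsPGroup r (center G)
  · exact hmc G X ⟨h, fun H e => by_contra fun hH =>
      bad ((good H hH).to_le (QV_mono fun y hy _ => e y hy)), zr, good, bad⟩
  obtain ⟨s, hs, d, ne⟩ : ∃ s : ℕ, s.Prime ∧ s ∣ Nat.card (center G) ∧ s ≠ r := by
    by_contra hn
    exact zr (IsPGroup.of_card (Nat.eq_prime_pow_of_unique_prime_dvd Nat.card_pos.ne'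
      fun hs d => by_contra fun ne => hn ⟨_, hs, d, ne⟩))
  have := Fact.mk hs
  obtain ⟨⟨c, hc⟩, o⟩ := exists_prime_orderOf_dvd_card' s d
  rw [orderOf_mk] at o
  have l : zpowers c ≤ center G := zpowers_le.2 hc
  have : (zpowers c).Normal := ⟨fun a ha g => by rwa [mem_center_iff.1 (l ha) g, mul_inv_cancel_right]⟩
  by_cases hp : ∃ x ∈ X, x ∈ zpowers c
  · obtain ⟨x, hx, hx'⟩ := hp
    refine bad (IsPGroup.of_bot.to_le (h.toFS.QV_le_of_pt hx (mem_normalizer_iff_cj.2 (cj_bot x))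
      fun y hy _ o => ?_))
    obtain ⟨u, -, rfl⟩ := h.toFS.exists_conj' hx hy o
    rw [mem_center_iff.1 (l hx') u, mul_inv_cancel_right, inv_mul_cancel]
    exact one_mem _
  have k := ih _ (by
    rw [← hn, card_eq_card_quotient_mul_card_subgroup (zpowers c), Nat.card_zpowers, o]
    exact lt_mul_of_one_lt_right Nat.card_pos hs.one_lt) (G ⧸ zpowers c) _ rfl
    (h.map (QuotientGroup.mk' (zpowers c)) (QuotientGroup.mk'_surjective _)
      (fun x hx e => hp ⟨x, hx, (QuotientGroup.eq_one_iff x).1 e⟩) fun g ⟨a, ha⟩ e => by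
        obtain ⟨k, rfl⟩ := mem_powers_iff_mem_zpowers.2 ((QuotientGroup.eq_one_iff g).1 e)
        exact ba_eq_one (a := 1) hs h.rp ne.symm (by
          simp only
          rw [pow_one, ← pow_mul, mul_comm, pow_mul, ← o, pow_orderOf_eq_one, one_pow]) ha)
  refine bad (pg_of_gen h.rp (N := zpowers c) (fun a ha g _ => (mem_center_iff.1 (l ha) g).symm)
    (fun g hg => ?_) (h.toFS.QV_gen ⊤))
  obtain ⟨a, e⟩ := isPGroup_iff_mem.1 k _ (map_QV_le _ X (mem_map_of_mem _ hg))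
  exact ⟨a, (QuotientGroup.eq_one_iff _).1 ((map_pow (QuotientGroup.mk' (zpowers c)) g _).trans e)⟩

/-- the unoriented `F`-set theorem for odd `r` -/
theorem T2.main_odd (h : T2 p r X) (hr : r ≠ 2) : IsPGroup r (QV r X ⊤) :=
  main_aux (fun _ _ _ _ M => M.odd hr) _ G X rfl h

end CfsgLib.FsV
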