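import Cfsg.Agent.Lib.FsV.Tw
import Cfsg.Agent.Lib.FsV.Mid
import Cfsg.Agent.Lib.ZStar.Main
import Cfsg.Agent.S0205

set_option autoImplicit false
set_option linter.unusedSectionVars false

namespace CfsgLib.FsV

open Subgroup CfsgLib.Tech CfsgLib.FsU

universe u

variable {G : Type u} [Group G] [Finite G] {p r : ℕ} {X : Set G} {H K M M' N : Subgroup G}
  {x y z g t u v : G}

theorem MC.exists_inv (h : MC p r X) : ∃ t : G, orderOf t = 2 := by
  rcases Nat.even_or_odd (Nat.card G) with he | ho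
  · have : Fact (Nat.Prime 2) := ⟨Nat.prime_two⟩
    exact exists_prime_orderOf_dvd_card' 2 he.two_dvd
  exfalso
  obtain ⟨n, hn⟩ := (Cfsg.Agent.S0205.result ho).solvable
  have key : ∀ n, ¬ derivedSeries G n ≤ center G := by
    intro n
    induction n with
    | zero =>
      obtain ⟨x, hx⟩ := h.exists_pt
      exact fun e => h.not_center hx (e (mem_top x))
    | succ n ih =>
      intro e
      rcases h.nc (derivedSeries_normal G n) with e1 | e1
      · exact ih e1
      · rw [derivedSeries_succ, e1] at e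
        exact ih (le_top.trans (h.commutator_eq_top.ge.trans e))
  exact key n (hn ▸ bot_le)

theorem MC.eq_one_of_center (h : MC p r X) (hr : r ≠ 2) (hv : v ∈ center G) (e : v * v = 1) :
    v = 1 := by
  obtain ⟨b, hb⟩ := h.zr ⟨v, hv⟩
  exact ba_eq_one (a := 1) (b := b) Nat.prime_two h.rp hr (by rw [pow_one, pow_two, e])
    (congrArg Subtype.val hb)

theorem od1_pow (h : FS p r X) (ht : t * t = 1) : t ^ p = t := by
  obtain ⟨k, hk⟩ := h.pp.odd_of_ne_two h.p2
  rw [hk, pow_succ, pow_mul, pow_two, ht, one_pow, one_mul]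

theorem MC.two_fix (h : MC p r X) (hr : r ≠ 2) (ht : orderOf t = 2) :
    ∃ m ∈ X, ∃ m' ∈ X, (Ori r m m' ∧ m ≠ m') ∧ t * m = m * t ∧ t * m' = m' * t := by
  by_contra hc
  have tt := od1_sq ht
  obtain ⟨x, hx⟩ := h.exists_pt
  obtain ⟨m, hm, tm, -⟩ := h.toT2.mid hr tt hx (h.ori_inv hr tt hx)
  have e1 : ∀ y ∈ X, t * y = y * t → y ∈ zpowers m := fun y hy e => by
    by_contra hne
    obtain ⟨y', a1, a2, a3, o⟩ := h.toFS.ex' hm hy
    exact hc ⟨m, hm, y', a1, ⟨o, fun e => hne (e ▸ a3)⟩, tm,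
      (mem_C1.1 (zpowers_le.2 (mem_C1.2 e.symm : y ∈ C1 t) a2)).symm⟩
  have e2 : ∀ g : G, ∀ y ∈ X, g * t * g⁻¹ * y = y * (g * t * g⁻¹) → g⁻¹ * y * g ∈ zpowers m := by
    intro g y hy e
    refine e1 _ (by simpa using h.conj y hy g⁻¹) ?_
    calc t * (g⁻¹ * y * g) = g⁻¹ * (g * t * g⁻¹ * y) * g := by group
      _ = g⁻¹ * (y * (g * t * g⁻¹)) * g := by rw [e]
      _ = g⁻¹ * y * g * t := by group
  have hA : ∀ g : G, g ∈ NN (zpowers m) → g * t * g⁻¹ = t := by
    intro g hg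
    have ss : g * t * g⁻¹ * (g * t * g⁻¹) = 1 := by
      rw [show g * t * g⁻¹ * (g * t * g⁻¹) = g * (t * t) * g⁻¹ by group, tt]; group
    have hcen : t⁻¹ * (g * t * g⁻¹) ∈ center G := h.mem_center fun z hz => by
      have := h.toT2.act_eq hr tt ss e1 (fun y hy e => by
        simpa [mul_assoc] using conj_mem_of_mem_normalizer hg (e2 g y hy e)) hm hz
        (h.ori_inv hr tt hz) (h.ori_inv hr ss hz)
      calc t⁻¹ * (g * t * g⁻¹) * z
          = t⁻¹ * (g * t * g⁻¹ * z * (g * t * g⁻¹)⁻¹) * (g * t * g⁻¹) := by group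
        _ = t⁻¹ * (t * z * t⁻¹) * (g * t * g⁻¹) := by rw [this]
        _ = z * (t⁻¹ * (g * t * g⁻¹)) := by group
    have hcc := mem_center_iff.1 hcen t
    have := h.eq_one_of_center hr hcen (by
      generalize hc : t⁻¹ * (g * t * g⁻¹) = c at hcc
      have hs : g * t * g⁻¹ = t * c := by rw [← hc]; group
      calc c * c = t * (t * c) * c := by rw [← mul_assoc, tt, one_mul]
        _ = t * (c * t) * c := by rw [hcc]
        _ = t * c * (t * c) := by group
        _ = 1 := by rw [← hs, ss])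
    exact (inv_mul_eq_one.1 this).symm
  have hiso : Cfsg.IsIsolatedInvolution t := by
    refine ⟨ht, fun g hg => hA g ?_⟩
    have a1 := e1 _ (h.conj m hm (g * t * g⁻¹)) (by
      calc t * (g * t * g⁻¹ * m * (g * t * g⁻¹)⁻¹)
          = (t * (g * t * g⁻¹)) * m * (g * t * g⁻¹)⁻¹ := by group
        _ = g * t * g⁻¹ * (t * m) * (g * t * g⁻¹)⁻¹ := by rw [hg.eq]; group
        _ = g * t * g⁻¹ * m * (g * t * g⁻¹)⁻¹ * (g * t * g⁻¹ * t) * (g * t * g⁻¹)⁻¹ := by
          rw [tm]; group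
        _ = g * t * g⁻¹ * m * (g * t * g⁻¹)⁻¹ * t := by rw [← hg.eq]; group)
    have a2 := e2 g m hm (h.inv_comm hr (by
      rw [show g * t * g⁻¹ * (g * t * g⁻¹) = g * (t * t) * g⁻¹ by group, tt]; group) hm a1)
    exact inv_mem_iff.1 ((h.toFS.mem_NN hm).2 (by rwa [inv_inv]))
  have hz := CfsgLib.ZStar.zstar hiso
  rcases h.nc (N := Cfsg.pPrimeCore 2 G) inferInstance with e | e
  · exact od1_ne ht (h.eq_one_of_center hr (h.mem_center' fun y _ => e (hz y)) tt)
  · have : t ∈ Cfsg.pPrimeCore 2 G := e.ge (mem_top t)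
    have h2 := (CfsgLib.Core.odd_card_oddCore G).of_dvd_nat (orderOf_dvd_natCard _ this)
    rw [ht] at h2
    exact absurd h2 (by decide)

end CfsgLib.FsV
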