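import Cfsg.Agent.Lib.FsV.Odd2

set_option autoImplicit false
set_option linter.unusedSectionVars false

namespace CfsgLib.FsV

open Subgroup CfsgLib.Tech CfsgLib.FsU

universe u

variable {G : Type u} [Group G] [Finite G] {p r : ℕ} {X : Set G} {H K M M' N : Subgroup G}
  {x y z g t u v : G}

theorem MC.odd (h : MC p r X) (hr : r ≠ 2) : False := by
  obtain ⟨t, ht⟩ := h.exists_inv
  obtain ⟨m₀, hm₀, -, -, -, tm₀, -⟩ := h.two_fix hr ht
  obtain ⟨M, hM, e⟩ := h.exists_blk (C1_ne_top (od2_nc h hr ht))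
  have e' : ∀ m ∈ X, t * m = m * t → m ∈ M := fun m hm e1 => e m hm (mem_C1.2 e1.symm)
  have hC : ∀ c : G, c * t = t * c → c ∈ M := fun c hc => by
    have := hM.uniq (hM.cj h.toFS c) h hr ht e' fun y hy e1 => mem_cj.2 (e' _
      (by simpa using h.conj y hy c⁻¹) (by
        calc t * (c⁻¹ * y * c) = c⁻¹ * (c * t) * c⁻¹ * y * c := by group
          _ = c⁻¹ * (t * y) * c := by rw [hc]; group
          _ = c⁻¹ * y * (t * c) := by rw [e1]; group
          _ = c⁻¹ * y * c * t := by rw [← hc]; group))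
    exact hM.mem_of_norm h fun y _ hy' => this.ge (conj_mem_cj.2 hy')
  have hmM := e' m₀ hm₀ tm₀
  have hP : IsPGroup r (QV r X M ⊔ center G : Subgroup G) :=
    IsPGroup.to_sup_of_normal_right (h.good M hM.ne) h.zr
  have hPn : ∀ g ∈ M, g ∈ NN (QV r X M ⊔ center G) := fun g hg =>
    blk_sup (h.toFS.QV_norm hg) (hol_NN inferInstance g)
  set K := (QV r X M ⊔ center G) ⊔ zpowers m₀ with hK
  have hpt : ∀ y ∈ X, y ∈ M → y ∈ K := fun y hy hy' =>
    (h.at hM.ne hm₀ hmM).pts (fun u hu => K.mul_mem (K.mul_mem (mem_sup_left (mem_sup_left hu))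
      (mem_sup_right (mem_zpowers m₀))) (K.inv_mem (mem_sup_left (mem_sup_left hu)))) hy hy'
  have hKn : ∀ g ∈ M, cj g K ≤ K := fun g hg => by
    rw [hK, cj_sup, mem_normalizer_iff_cj.1 (hPn g hg), cj_zpowers]
    exact sup_le le_sup_left ((zpowers_le).2
      (hpt _ (h.conj m₀ hm₀ g) (M.mul_mem (M.mul_mem hg hmM) (M.inv_mem hg))))
  refine pb (x := m₀) (N := K ⊓ C1 t) ht (fun L hL hx => h.normal_eq_top hL hm₀ hx) ?_
    (fun n hn => mem_C1.1 hn.2) (fun c hc n hn => ⟨hKn c (hC c hc) (conj_mem_cj.2 hn.1), ?_⟩) fun g => ?_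
  · rw [← Nat.not_even_iff_odd, even_iff_two_dvd]
    intro he
    have : Fact (Nat.Prime 2) := ⟨Nat.prime_two⟩
    obtain ⟨⟨s, hs⟩, hs2⟩ := exists_prime_orderOf_dvd_card' 2 he
    rw [orderOf_mk] at hs2
    obtain ⟨n, hn, k, e3⟩ := ba_mem_sup (hPn m₀ hmM) hs.1
    have := ba_pow (pow_mem (hPn m₀ hmM) k) hn p
    rw [← e3, od1_pow h.toFS (od1_sq hs2), ← pow_mul, mul_comm, pow_mul, h.toFS.pow_eq_one hm₀, one_pow,
      inv_one, mul_one] at this
    obtain ⟨b, hb⟩ := isPGroup_iff_mem.1 hP s this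
    exact od1_ne hs2 (ba_eq_one (a := 1) Nat.prime_two h.rp hr (by rw [pow_one, pow_two, od1_sq hs2]) hb)
  · exact (C1 t).mul_mem ((C1 t).mul_mem (mem_C1.2 hc) hn.2) ((C1 t).inv_mem (mem_C1.2 hc))
  · have hz := h.conj m₀ hm₀ g
    obtain ⟨m, hm, tm, hmE, c, hc, ct, e1⟩ := h.toT2.zt hr (od1_sq ht) hz (h.ori_inv hr (od1_sq ht) hz)
    refine ⟨m * c, ⟨K.mul_mem (hpt m hm (e' m hm tm)) ?_,
      (C1 t).mul_mem (mem_C1.2 tm.symm) (mem_C1.2 ct)⟩, e1⟩
    by_cases hcc : c ∈ center G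
    · exact mem_sup_left (mem_sup_right hcc)
    have A := (h.toT2.at_line hz (h.conj _ hz t) (h.ori_inv hr (od1_sq ht) hz)).1.of_mem hm hmE
    obtain ⟨L, hL, e2⟩ := h.exists_blk (h.ne_top A.pg)
    have hcL := A.Z_mono (h.at hL.ne hm (e2 m hm hmE)) e2 hc
    rw [← h.o2 hM hL hm (e' m hm tm) (e2 m hm hmE) hcL (hC c ct) hcc] at hcL
    exact mem_sup_left (mem_sup_left (ZV_le r X M hcL))

end CfsgLib.FsV
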