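import Cfsg.Agent.Lib.FsV.Hol

set_option autoImplicit false
set_option linter.unusedSectionVars false

namespace CfsgLib.FsV

open Subgroup CfsgLib.Tech CfsgLib.FsU
open scoped commutatorElement

universe u

variable {G : Type u} [Group G] [Finite G] {p r : ℕ} {X : Set G} {H K M M' N : Subgroup G}
  {x y z g t u v : G}

theorem FS.mem_NN (h : FS p r X) (hx : x ∈ X) : g ∈ NN (zpowers x) ↔ g * x * g⁻¹ ∈ zpowers x := by
  refine ⟨fun e => conj_mem_of_mem_normalizer e (mem_zpowers x), fun e => ?_⟩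
  rw [mem_normalizer_iff_cj, cj_zpowers]
  exact h.zp_eq hx e (h.ne_one (h.conj x hx g))

/-- an element normalizing two members acts on them in the same way -/
theorem FS.act_eq (h : FS p r X) (hx : x ∈ X) {s : G} (h1 : s * x * s⁻¹ ∈ zpowers x)
    (h2 : g⁻¹ * s * g * x * (g⁻¹ * s * g)⁻¹ ∈ zpowers x) :
    g⁻¹ * s * g * x * (g⁻¹ * s * g)⁻¹ = s * x * s⁻¹ := by
  obtain ⟨a, ha⟩ := mem_powers_iff_mem_zpowers.2 h1
  obtain ⟨b, hb⟩ := mem_powers_iff_mem_zpowers.2 h2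
  obtain ⟨y, hy, m, o⟩ := h.ex x hx _ (h.conj x hx g)
  obtain ⟨j, hj⟩ := mem_powers_iff_mem_zpowers.2 m
  simp only at ha hb hj
  have e1 : s * y * s⁻¹ = y ^ b := by
    rw [← hj, ← pow_mul, mul_comm j b, pow_mul, conj_pow (i := b), hb, ← conj_pow]
    congr 1
    group
  have e2 := h.ori_uniq (h.conj x hx s) (h.conj y hy s) (z := y ^ a) (by
    rw [h.zp_eq hy (e1 ▸ pow_mem (mem_zpowers y) b) (h.ne_one (h.conj y hy s))]
    exact pow_mem (mem_zpowers y) a) (o.conj s) (ha ▸ o.pow a)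
  rw [e1, pow_eq_pow_iff_modEq, h.ord y hy, ← h.ord x hx, ← pow_eq_pow_iff_modEq] at e2
  rw [← ha, ← hb, e2]

theorem MC.tw_pow (h : MC p r X) (hx : x ∈ X) (ht : t ∈ NN (zpowers x)) :
    t ^ (NN (zpowers x)).index * x = x * t ^ (NN (zpowers x)).index := by
  classical
  let ϕ : NN (zpowers x) →* (ZMod (Nat.card (zpowers x)))ˣ :=
    (IsCyclic.mulAutMulEquiv (zpowers x)).toMonoidHom.comp (zpowers x).normalizerMonoidHom
  have k : ∀ a b : NN (zpowers x), ϕ a = ϕ b ↔ (a : G) * x * (a : G)⁻¹ = b * x * (b : G)⁻¹ := by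
    intro a b
    refine (IsCyclic.mulAutMulEquiv (zpowers x)).injective.eq_iff.trans ⟨fun e => ?_, fun e => ?_⟩
    · exact congrArg Subtype.val (DFunLike.congr_fun e ⟨x, mem_zpowers x⟩)
    · ext ⟨_, i, rfl⟩
      change (a : G) * x ^ i * (a : G)⁻¹ = b * x ^ i * (b : G)⁻¹
      rw [← conj_zpow, ← conj_zpow, e]
  have h1 : MonoidHom.transfer ϕ t = 1 := by
    have := Abelianization.commutator_subset_ker (MonoidHom.transfer ϕ)
    rw [h.commutator_eq_top] at this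
    exact this (mem_top t)
  let _ := Fintype.ofFinite (Quotient (MulAction.orbitRel (zpowers t) (G ⧸ NN (zpowers x))))
  rw [MonoidHom.transfer_eq_prod_quotient_orbitRel_zpowers_quot, Finset.prod_congr rfl
    (g := fun q => ϕ ⟨t, ht⟩ ^ Function.minimalPeriod (t • ·) q.out) fun q _ => by
      rw [← map_pow, k]
      exact h.toFS.act_eq hx ((h.toFS.mem_NN hx).1 (pow_mem ht _)) ((h.toFS.mem_NN hx).1
        (QuotientGroup.out_conj_pow_minimalPeriod_mem _ t q.out)),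
    Finset.prod_pow_eq_pow_sum, ← index_eq_sum_minimalPeriod, ← map_pow, ← map_one ϕ, k] at h1
  simpa [mul_inv_eq_iff_eq_mul] using h1

theorem T2.index_odd (h : T2 p r X) (hr : r ≠ 2) (hx : x ∈ X) : Odd (NN (zpowers x)).index := by
  classical
  have fs := h.toFS
  have ex : ∀ c : G ⧸ NN (zpowers x), ∃ u : G, (u : G ⧸ NN (zpowers x)) = c ∧
      Ori r x (u * x * u⁻¹) ∧ u ∈ RR x (u * x * u⁻¹) := by
    intro c
    obtain ⟨g, rfl⟩ := QuotientGroup.mk_surjective c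
    obtain ⟨y, hy, m, o⟩ := h.ex x hx _ (h.conj x hx g)
    obtain ⟨u, hu, rfl⟩ := fs.exists_conj' hx hy o
    refine ⟨u, (QuotientGroup.eq.2 ((fs.mem_NN hx).2 ?_)).symm, o, hu⟩
    rw [← cj_zpowers, mem_cj] at m
    convert m using 1
    group
  choose f f1 f2 f3 using ex
  let ρ : Function.End (G ⧸ NN (zpowers x)) := fun c => ((f c)⁻¹ : G)
  have cx : ∀ a b : G, Ori r x (a * x * a⁻¹) → Ori r x (b * x * b⁻¹) →
      (a : G ⧸ NN (zpowers x)) = b → a * x * a⁻¹ = b * x * b⁻¹ := fun a b o o' e =>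
    fs.ori_uniq hx (h.conj x hx a) (by
      rw [← cj_zpowers, mem_cj]
      convert (fs.mem_NN hx).1 (QuotientGroup.eq.1 e) using 1
      group) o o'
  have oi : ∀ c, x⁻¹ * ((f c)⁻¹ * x * (f c)⁻¹⁻¹) ∈ RR x (f c * x * (f c)⁻¹) := fun c => by
    simpa [mul_assoc] using mul_mem (conj_mem_of_mem_normalizer' (RR_norm _ _) (inv_mem (f3 c))) (f3 c)
  have h2 : ρ ^ 2 ^ 1 = 1 := by
    funext c
    change (((f (ρ c))⁻¹ : G) : G ⧸ NN (zpowers x)) = c
    have e := cx _ _ (f2 (ρ c)) (Ori.of_mem (f2 c) (RR_norm _ _) (oi c)) (f1 (ρ c))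
    have m := f3 (ρ c)
    rw [e] at m
    replace m := RR_le (RR_norm _ _) (oi c) m
    obtain ⟨A, -, hQ⟩ := h.at_line hx (h.conj x hx (f c)) (f2 c)
    have m' := f3 c
    rw [← hQ] at m m'
    have e1 : f c * f (ρ c) * x = x * (f c * f (ρ c)) := by
      calc _ = f c * (f (ρ c) * x * (f (ρ c))⁻¹) * f (ρ c) := by group
        _ = _ := by rw [e]; group
    have e2 := (mem_ZV.1 (A.mem_Z (mul_mem m' m) e1)).2 _ m'
    rw [mul_assoc, mul_right_inj] at e2
    conv_rhs => rw [← f1 c]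
    refine QuotientGroup.eq.2 ((fs.mem_NN hx).2 ?_)
    rw [inv_inv, ← e2, e1, mul_inv_cancel_right]
    exact mem_zpowers x
  have := Fact.mk Nat.prime_two
  let _ := Fintype.ofFinite (G ⧸ NN (zpowers x))
  have h3 := Equiv.Perm.card_fixedPoints_modEq h2
  have h4 : Function.fixedPoints ρ = {((1 : G) : G ⧸ NN (zpowers x))} := by
    have k : ∀ c, ρ c = c ↔ f c * f c ∈ NN (zpowers x) := fun c => by
      conv_lhs => rw [← f1 c, f1 c]
      change (((f c)⁻¹ : G) : G ⧸ NN (zpowers x)) = c ↔ _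
      conv_lhs => rhs; rw [← f1 c]
      rw [QuotientGroup.eq, inv_inv]
    ext c
    rw [Function.mem_fixedPoints_iff, k, Set.mem_singleton_iff]
    conv_rhs => rw [← f1 c, eq_comm, QuotientGroup.eq, inv_one, one_mul]
    refine ⟨fun e => ?_, fun e => mul_mem e e⟩
    obtain ⟨n, hn⟩ := isPGroup_iff_mem.1 (f2 c) _ (f3 c)
    obtain ⟨j, hj⟩ : Odd (r ^ n) := (h.rp.odd_of_ne_two hr).pow
    have := pow_mem e (j + 1)
    rwa [← sq, ← pow_mul, show 2 * (j + 1) = r ^ n + 1 by omega, pow_succ, hn, one_mul] at this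
  rw [← Nat.card_eq_fintype_card, ← Nat.card_eq_fintype_card, h4, Nat.card_unique (α := ({_} : Set _))] at h3
  exact Nat.odd_iff.2 h3

/-- an involution normalizing a member centralizes it -/
theorem MC.inv_comm (h : MC p r X) (hr : r ≠ 2) (ht : t * t = 1) (hx : x ∈ X)
    (e : t * x * t⁻¹ ∈ zpowers x) : t * x = x * t := by
  have := h.tw_pow hx ((h.toFS.mem_NN hx).2 e)
  obtain ⟨k, hk⟩ := h.toT2.index_odd hr hx
  rwa [hk, pow_succ, pow_mul, sq, ht, one_pow, one_mul] at this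

theorem MC.ori_inv (h : MC p r X) (hr : r ≠ 2) (ht : t * t = 1) (hz : z ∈ X) :
    Ori r z (t * z * t⁻¹) := by
  have fs := h.toFS
  have := Fact.mk h.rp
  obtain ⟨y, hy, m, m', o⟩ := fs.ex' hz (h.conj z hz t)
  obtain ⟨u, hu, e⟩ := fs.exists_conj' hz hy o
  obtain ⟨A, hy', hQ⟩ := h.toT2.at_line hz hy o
  have ti : t⁻¹ = t := inv_eq_of_mul_eq_one_right ht
  have n1 : t ∈ NN (RR z y ⊔ zpowers z) := by
    refine mem_normalizer_of_cj_le ?_
    rw [← cj_le_cj_iff t⁻¹, cj_inv_cj]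
    have h1 : z ∈ cj t⁻¹ (RR z y ⊔ zpowers z) := by
      rw [mem_cj, inv_inv]; exact zpowers_le.2 hy' m'
    have h2 : y ∈ cj t⁻¹ (RR z y ⊔ zpowers z) := by
      rw [← cj_zpowers, mem_cj, ti] at m
      rw [mem_cj, inv_inv, ti]
      exact mem_sup_right m
    exact sup_le (RR_le (le_normalizer h1) (mul_mem (inv_mem h1) h2)) (zpowers_le.2 h1)
  have n2 := fs.NN_QV n1
  rw [hQ] at n2
  have g1 : u⁻¹ * t ∈ NN (zpowers z) := (fs.mem_NN hz).2 (by
    rw [e, ← cj_zpowers, mem_cj] at m'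
    convert m' using 1
    group)
  have g2 : (u⁻¹ * t) ^ 2 ∈ RR z y := by
    have := mul_mem (inv_mem hu) (conj_mem_of_mem_normalizer n2 (inv_mem hu))
    rw [ti] at this
    rw [sq]
    simpa only [mul_assoc] using this
  have g3 : (u⁻¹ * t) ^ 2 ∈ C1 z := mem_C1.2 (by
    have a1 := mul_mem (inv_mem (mem_zpowers z)) ((fs.mem_NN hz).1 (pow_mem g1 2))
    have a2 := fs.eq_one hz a1 (isPGroup_iff_mem.1 o _ (by
      simpa [mul_assoc] using mul_mem (conj_mem_of_mem_normalizer' (RR_norm z y) g2) (inv_mem g2)))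
    rw [inv_mul_eq_one, eq_mul_inv_iff_mul_eq] at a2
    exact a2.symm)
  obtain ⟨n, hn⟩ := isPGroup_iff_mem.1 o _ g2
  obtain ⟨j, hj⟩ : Odd (r ^ n) := (h.rp.odd_of_ne_two hr).pow
  have g4 : (u⁻¹ * t) ^ r ^ n ∈ C1 z := mem_C1.2 (h.inv_comm hr (by rw [← pow_add, ← two_mul, pow_mul, hn])
    hz ((fs.mem_NN hz).1 (pow_mem g1 _)))
  rw [hj, pow_succ, pow_mul, mul_mem_cancel_left (pow_mem g3 j), mem_C1] at g4
  have : t * z * t⁻¹ = y := by
    calc t * z * t⁻¹ = u * (u⁻¹ * t * z) * t⁻¹ := by group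
      _ = _ := by rw [g4, e]; group
  exact this ▸ o

end CfsgLib.FsV
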